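import Cfsg.Agent.Sl2Chars.Torus

/-!
# Characters of `SL₂`: the cuspidal characters are the `piC`

The `θ` with `θ² ≠ 1` map two-to-one onto the characters of pattern `(0, 1, 1)`. Column
orthogonality then gives the two characters of degree `(q - 1) / 2` on the nonsplit torus.
-/

set_option autoImplicit false
set_option linter.unusedSectionVars false

noncomputable section

namespace CfsgLib.Sl2Chars

open Cfsg CfsgLib.SL2
open scoped ComplexConjugate Classical

variable {F : Type*} [Field F] [Fintype F] [DecidableEq F]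

local notation "SLG" => Matrix.SpecialLinearGroup (Fin 2) F

variable {C : Subgroup (Matrix.SpecialLinearGroup (Fin 2) F)}
variable (h2 : (2 : F) ≠ 0) (hC : IsCyclic C) (hcard : Nat.card C = Fintype.card F + 1)

/-- Fintype structure on the linear characters of a subgroup. -/
scoped instance instFintypeSubgroupHom (C : Subgroup (Matrix.SpecialLinearGroup (Fin 2) F)) :
    Fintype (C →* ℂˣ) := Fintype.ofFinite _

/-- The irreducible character `piC θ`. -/
def piIrr (θ : C →* ℂˣ) (hθ : θ * θ ≠ 1) : IrrCharacter SLG :=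
  ⟨piC h2 hcard θ, piC_isIrr h2 hC hcard hθ⟩

lemma piIrr_coe (θ : C →* ℂˣ) (hθ : θ * θ ≠ 1) :
    (piIrr h2 hC hcard θ hθ : SLG → ℂ) = piC h2 hcard θ := rfl

include h2 hC hcard in
lemma nU_piIrr_zero (θ : C →* ℂˣ) (hθ : θ * θ ≠ 1) : nU (piIrr h2 hC hcard θ hθ) 0 = 0 :=
  nU_eq (by rw [mU_zero, piIrr_coe, restAvg_piC h2 hC hcard, Nat.cast_zero])

include h2 hC hcard in
lemma pat_piIrr {ν : F} (hν : ¬ IsSquare ν) (θ : C →* ℂˣ) (hθ : θ * θ ≠ 1) :
    pat ν (piIrr h2 hC hcard θ hθ) = (0, 1, 1) := by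
  obtain ⟨k, hk⟩ := odd_card h2
  have hq := Fintype.one_lt_card (α := F)
  have hd : (piIrr h2 hC hcard θ hθ : SLG → ℂ) 1 = ((Fintype.card F - 1 : ℕ) : ℂ) := by
    rw [piIrr_coe, piC_one h2 hC hcard, Nat.cast_sub (by omega), Nat.cast_one]
  rw [apply_one_pat h2 hν, Nat.cast_inj] at hd
  rcases (cusp_pat h2 hν).1 _ (nU_piIrr_zero h2 hC hcard θ hθ) with h | h | h
  · exact h
  all_goals
    rw [h] at hd
    simp [patDeg] at hd
    omega

include hC in
lemma sum_theta_apply {c : C} (hc : c ≠ 1) :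
    ∑ θ : C →* ℂˣ, ((θ c : ℂˣ) : ℂ) = 0 := by
  obtain ⟨l, hl⟩ := Chars.exists_linChar_ne_one (g := c)
    (by rw [torus_commutator hC, Subgroup.mem_bot]; exact hc)
  have h : ∑ θ : C →* ℂˣ, ((θ c : ℂˣ) : ℂ) = (l c : ℂ) * ∑ θ : C →* ℂˣ, ((θ c : ℂˣ) : ℂ) := by
    rw [Finset.mul_sum]
    refine (Fintype.sum_equiv (Equiv.mulLeft l) _ _ fun θ => ?_).symm
    simp
  have : ((l c : ℂ) - 1) * ∑ θ : C →* ℂˣ, ((θ c : ℂˣ) : ℂ) = 0 := by linear_combination -h
  refine (mul_eq_zero.1 this).resolve_left (sub_ne_zero.2 fun h1 => hl (Units.ext ?_))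
  simpa using h1

include h2 hC hcard in
/-- The character of order two of the torus. -/
lemma exists_theta_quad : ∃ θ₀ : C →* ℂˣ, θ₀ ≠ 1 ∧
    (Finset.univ.filter fun θ : C →* ℂˣ => θ * θ = 1) = {1, θ₀} ∧
    ∀ c : C, ((θ₀ c : ℂˣ) : ℂ) = if (c : SLG) ^ ((Fintype.card F + 1) / 2) = 1 then 1 else -1 := by
  obtain ⟨k, hk⟩ := odd_card h2
  set m := (Fintype.card F + 1) / 2 with hm
  have hval : ∀ c : C, (c : SLG) ^ m = 1 ∨ (c : SLG) ^ m = -1 := by
    intro c
    by_cases h1 : (c : SLG) ^ m = 1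
    · exact Or.inl h1
    · refine Or.inr (eq_neg_one_of_mul_self h2 h1 ?_)
      rw [← pow_add, show m + m = Nat.card C by omega, ← SubmonoidClass.coe_pow, pow_card_eq_one',
        OneMemClass.coe_one]
  have hne : (-1 : SLG) ≠ 1 := neg_one_ne_one h2
  let θ₀ : C →* ℂˣ :=
    { toFun := fun c => if (c : SLG) ^ m = 1 then 1 else -1
      map_one' := by simp
      map_mul' := fun x y => by
        have hxy : ((x * y : C) : SLG) ^ m = (x : SLG) ^ m * (y : SLG) ^ m := by
          rw [Subgroup.coe_mul]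
          exact Commute.mul_pow (congrArg Subtype.val (torus_comm hC x y)) m
        rcases hval x with hx | hx <;> rcases hval y with hy | hy <;>
          simp only [hxy, hx, hy] <;> simp [hne] }
  have hθ₀ : θ₀ ≠ 1 := by
    obtain ⟨g, hg⟩ := hC.exists_generator
    have hord : orderOf g = Fintype.card F + 1 := by
      rw [orderOf_eq_card_of_forall_mem_zpowers hg, hcard]
    intro h
    have h' := DFunLike.congr_fun h g
    simp only [θ₀, MonoidHom.coe_mk, OneHom.coe_mk, MonoidHom.one_apply] at h'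
    have hgm : (g : SLG) ^ m = 1 := by
      by_contra hne'
      rw [if_neg hne'] at h'
      have := congrArg Units.val h'
      norm_num at this
    rw [← SubmonoidClass.coe_pow, OneMemClass.coe_eq_one, ← orderOf_dvd_iff_pow_eq_one, hord] at hgm
    have := Nat.le_of_dvd (by omega) hgm
    omega
  refine ⟨θ₀, hθ₀, ?_, fun c => ?_⟩
  · obtain ⟨g, hg⟩ := hC.exists_generator
    have hg0 : θ₀ g = -1 := by
      rcases hval g with h | h
      · exfalso
        refine hθ₀ (MonoidHom.ext fun x => ?_)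
        obtain ⟨i, rfl⟩ := hg x
        simp only [map_zpow, MonoidHom.one_apply]
        simp [θ₀, h]
      · simp [θ₀, h, hne]
    refine Finset.ext fun θ => ?_
    simp only [Finset.mem_filter, Finset.mem_univ, true_and, Finset.mem_insert,
      Finset.mem_singleton]
    constructor
    · intro h
      have hg' : (θ g : ℂ) * θ g = 1 := by
        rw [← Units.val_mul, ← MonoidHom.mul_apply, h, MonoidHom.one_apply, Units.val_one]
      rcases mul_self_eq_one_iff.1 hg' with h' | h'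
      · left
        refine MonoidHom.ext fun x => ?_
        obtain ⟨i, rfl⟩ := hg x
        simp [map_zpow, show θ g = 1 from Units.ext h']
      · right
        refine MonoidHom.ext fun x => ?_
        obtain ⟨i, rfl⟩ := hg x
        simp [map_zpow, show θ g = -1 from Units.ext (by simpa using h'), hg0]
    · rintro (rfl | rfl)
      · exact MonoidHom.ext fun c => one_mul (1 : ℂˣ)
      · refine MonoidHom.ext fun c => ?_
        show θ₀ c * θ₀ c = 1
        rcases hval c with h | h <;> simp [θ₀, h, hne]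
  · rcases hval c with h | h <;> simp [θ₀, h, hne]

include h2 hC hcard in
/-- `θ ↦ piC θ` is two-to-one onto the pattern `(0, 1, 1)`. -/
theorem torus_main {ν : F} (hν : ¬ IsSquare ν) :
    (∀ χ : IrrCharacter SLG, pat ν χ = (0, 1, 1) →
      ∃ θ : C →* ℂˣ, θ * θ ≠ 1 ∧ (χ : SLG → ℂ) = piC h2 hcard θ) ∧
    ∀ g : SLG, 2 * ∑ χ ∈ Finset.univ.filter (fun χ : IrrCharacter SLG => pat ν χ = (0, 1, 1)),
        (χ : SLG → ℂ) g =
      ∑ θ ∈ Finset.univ.filter (fun θ : C →* ℂˣ => θ * θ ≠ 1), piC h2 hcard θ g := by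
  set T := Finset.univ.filter (fun χ : IrrCharacter SLG => pat ν χ = (0, 1, 1)) with hT
  set S := Finset.univ.filter (fun θ : C →* ℂˣ => θ * θ ≠ 1) with hS
  let Φ : (C →* ℂˣ) → IrrCharacter SLG := fun θ =>
    if h : θ * θ ≠ 1 then piIrr h2 hC hcard θ h else Chars.oneChar SLG
  have hΦ : ∀ θ ∈ S, (Φ θ : SLG → ℂ) = piC h2 hcard θ := fun θ hθ => by
    simp only [Φ, dif_pos (Finset.mem_filter.1 hθ).2, piIrr_coe]
  have hmap : ∀ θ ∈ S, Φ θ ∈ T := fun θ hθ => by
    simp only [Φ, dif_pos (Finset.mem_filter.1 hθ).2, hT, Finset.mem_filter, Finset.mem_univ,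
      true_and, pat_piIrr h2 hC hcard hν]
  have hfib : ∀ χ ∈ T, (S.filter fun θ => Φ θ = χ).card ≤ 2 := by
    intro χ _
    rcases (S.filter fun θ => Φ θ = χ).eq_empty_or_nonempty with h | ⟨θ, hθ⟩
    · simp [h]
    · refine (Finset.card_le_card (t := {θ, θ⁻¹}) fun θ' hθ' => ?_).trans Finset.card_le_two
      rw [Finset.mem_filter] at hθ hθ'
      have e : piC h2 hcard θ' = piC h2 hcard θ := by
        rw [← hΦ θ hθ.1, ← hΦ θ' hθ'.1, hθ.2, hθ'.2]
      have h := classInner_piC_piC h2 hC hcard θ θ'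
      rw [e, classInner_piC_piC h2 hC hcard θ θ, if_pos rfl,
        if_neg (Finset.mem_filter.1 hθ.1).2] at h
      rw [Finset.mem_insert, Finset.mem_singleton]
      by_cases h1 : θ = θ'
      · exact Or.inl h1.symm
      · by_cases h1' : θ * θ' = 1
        · refine Or.inr (MonoidHom.ext fun x => ?_)
          rw [MonoidHom.inv_apply]
          exact eq_inv_of_mul_eq_one_right (DFunLike.congr_fun h1' x)
        · rw [if_neg h1, if_neg h1'] at h
          norm_num at h
  have hTc : 2 * T.card = Fintype.card F - 1 := by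
    apply Nat.cast_injective (R := ℂ)
    rw [Nat.cast_mul, Nat.cast_sub (Fintype.card_pos (α := F))]
    rw [show ((T.card : ℕ) : ℂ) = _ from card_pat h2 hν (0, 1, 1)]
    norm_num
    ring
  have hSc : S.card = Fintype.card F - 1 := by
    obtain ⟨θ₀, hne, hf, -⟩ := exists_theta_quad h2 hC hcard
    have h := Finset.card_filter_add_card_filter_not (s := (Finset.univ : Finset (C →* ℂˣ)))
      (fun θ : C →* ℂˣ => θ * θ = 1)
    rw [hf, Finset.card_pair (Ne.symm hne), Finset.card_univ, ← Nat.card_eq_fintype_card,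
      Chars.card_monoidHom_units, torus_commutator hC, Subgroup.index_bot, hcard] at h
    have he : S.card = (Finset.univ.filter fun θ : C →* ℂˣ => ¬ θ * θ = 1).card := by
      rw [hS]
    omega
  have hfib2 : ∀ χ ∈ T, (S.filter fun θ => Φ θ = χ).card = 2 :=
    (Finset.sum_eq_sum_iff_of_le hfib).1 (by
      rw [← Finset.card_eq_sum_card_fiberwise hmap, Finset.sum_const, smul_eq_mul, mul_comm, hTc,
        hSc])
  refine ⟨fun χ hχ => ?_, fun g => ?_⟩
  · have hm : χ ∈ T := Finset.mem_filter.2 ⟨Finset.mem_univ _, hχ⟩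
    obtain ⟨θ, hθ⟩ : (S.filter fun θ => Φ θ = χ).Nonempty :=
      Finset.card_pos.1 (by rw [hfib2 χ hm]; omega)
    rw [Finset.mem_filter] at hθ
    exact ⟨θ, (Finset.mem_filter.1 hθ.1).2, by rw [← hθ.2, hΦ θ hθ.1]⟩
  · rw [← Finset.sum_fiberwise_of_maps_to hmap, Finset.mul_sum]
    refine Finset.sum_congr rfl fun χ hχ => ?_
    rw [Finset.sum_congr rfl (g := fun _ => (χ : SLG → ℂ) g) (fun θ hθ => by
      rw [Finset.mem_filter] at hθ
      rw [← hΦ θ hθ.1, hθ.2]), Finset.sum_const, hfib2 χ hχ, nsmul_eq_mul, Nat.cast_ofNat]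

include h2 hC hcard in
/-- The characters of degree `(q - 1) / 2` on the nonsplit torus. -/
theorem apply_cuspHalf {ν : F} (hν : ¬ IsSquare ν) {χ : IrrCharacter SLG}
    (hχ : pat ν χ = (0, 1, 0) ∨ pat ν χ = (0, 0, 1)) {c : C}
    (hz : (c : SLG) ∉ Subgroup.center SLG) :
    (χ : SLG → ℂ) (c : SLG) =
      if (c : SLG) ^ ((Fintype.card F + 1) / 2) = 1 then -1 else 1 := by
  have hns := not_isSplitTrace_of_mem h2 hC hcard c.2 hz
  obtain ⟨θ₀, hne, hf, hθ₀⟩ := exists_theta_quad h2 hC hcard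
  set x := (χ : SLG → ℂ) (c : SLG) with hx
  set e := Units.mk0 ν (ne_zero_of_not_isSquare hν) with he
  set χ' := twistChar e χ with hχ'
  have hx' : (χ' : SLG → ℂ) (c : SLG) = x := by
    rw [hχ', twistChar_apply]
    exact (Chars.eq_of_isConj (Chars.isClassFunction_coe χ)
      (isConj_of_tr_eq (sq_ne_four_of_not_isSplitTrace hns) (tr_twist e _).symm)).symm
  have hp' : pat ν χ' = (nU χ 0, nU χ ν, nU χ 1) := pat_twistChar hν χ
  have hpp : (pat ν χ = (0, 1, 0) ∧ pat ν χ' = (0, 0, 1)) ∨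
      (pat ν χ = (0, 0, 1) ∧ pat ν χ' = (0, 1, 0)) := by
    rw [hp']
    rcases hχ with h | h
    · refine Or.inl ⟨h, ?_⟩
      simp only [pat, Prod.mk.injEq] at h
      rw [h.1, h.2.1, h.2.2]
    · refine Or.inr ⟨h, ?_⟩
      simp only [pat, Prod.mk.injEq] at h
      rw [h.1, h.2.1, h.2.2]
  set T := Finset.univ.filter (fun χ : IrrCharacter SLG => pat ν χ = (0, 1, 1)) with hT
  set R : Finset (IrrCharacter SLG) := {Chars.oneChar SLG, stChar F, χ, χ'} with hR
  have horth := Chars.sum_irr_mul_conj (c : SLG) 1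
  rw [if_neg fun h => hz (by rw [isConj_one_left.1 h]; exact one_mem _)] at horth
  have hzero : ∀ ψ ∈ (Finset.univ : Finset (IrrCharacter SLG)), ψ ∉ R ∪ T →
      (ψ : SLG → ℂ) (c : SLG) * conj ((ψ : SLG → ℂ) 1) = 0 := by
    intro ψ _ hψ
    simp only [hR, hT, Finset.mem_union, Finset.mem_insert, Finset.mem_singleton, Finset.mem_filter,
      Finset.mem_univ, true_and, not_or] at hψ
    obtain ⟨⟨h1, h2', h3, h4⟩, h5⟩ := hψ
    by_cases h0 : nU ψ 0 = 0
    · exfalso
      rcases (cusp_pat h2 hν).1 ψ h0 with h | h | h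
      · exact h5 h
      all_goals
        rcases hpp with ⟨ha, hb⟩ | ⟨ha, hb⟩
        · first
            | exact h3 (eq_of_pat_eq h2 hν (Or.inr (Or.inr (Or.inl rfl))) h ha)
            | exact h4 (eq_of_pat_eq h2 hν (Or.inr (Or.inr (Or.inr rfl))) h hb)
        · first
            | exact h4 (eq_of_pat_eq h2 hν (Or.inr (Or.inr (Or.inl rfl))) h hb)
            | exact h3 (eq_of_pat_eq h2 hν (Or.inr (Or.inr (Or.inr rfl))) h ha)
    · rcases noncusp_cases h2 hν h0 with h | h | ⟨α, -, h, -⟩ | ⟨α, φ, hα, hα1, -, hP, -⟩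
      · exact absurd h h1
      · exact absurd h h2'
      · rw [h, P_apply_nonsplit α hns, zero_mul]
      · rw [apply_nonsplit_half h2 hν hα hα1 hP hns, zero_mul]
  rw [← Finset.sum_subset (Finset.subset_univ (R ∪ T)) hzero] at horth
  have p1 := pat_oneChar hν
  have p2 := pat_stChar (F := F) ν
  have hdisj : Disjoint R T := by
    rw [Finset.disjoint_left]
    intro ψ hψ hψT
    rw [hT, Finset.mem_filter] at hψT
    simp only [hR, Finset.mem_insert, Finset.mem_singleton] at hψ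
    rcases hψ with rfl | rfl | rfl | rfl <;>
      rcases hpp with ⟨ha, hb⟩ | ⟨ha, hb⟩ <;> simp_all
  have hnot : ∀ {a b : IrrCharacter SLG}, pat ν a ≠ pat ν b → a ≠ b :=
    fun h hh => h (congrArg _ hh)
  have hh : ∀ ψ : IrrCharacter SLG, pat ν ψ = (0, 1, 0) ∨ pat ν ψ = (0, 0, 1) →
      (ψ : SLG → ℂ) 1 = ((Fintype.card F : ℂ) - 1) / 2 := by
    intro ψ h
    obtain ⟨k, hk⟩ := odd_card h2
    rw [apply_one_pat h2 hν]
    rcases h with h | h <;> rw [h] <;> simp [patDeg, hk]
  rw [Finset.sum_union hdisj, hR, Finset.sum_insert, Finset.sum_insert, Finset.sum_pair] at horth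
  rotate_left
  · rcases hpp with ⟨ha, hb⟩ | ⟨ha, hb⟩ <;> exact hnot (by simp [ha, hb])
  · simp only [Finset.mem_insert, Finset.mem_singleton, not_or]
    rcases hpp with ⟨ha, hb⟩ | ⟨ha, hb⟩ <;>
      exact ⟨hnot (by simp [p2, ha]), hnot (by simp [p2, hb])⟩
  · simp only [Finset.mem_insert, Finset.mem_singleton, not_or]
    rcases hpp with ⟨ha, hb⟩ | ⟨ha, hb⟩ <;>
      exact ⟨hnot (by simp [p1, p2]), hnot (by simp [p1, ha]), hnot (by simp [p1, hb])⟩
  have hdeg : ∀ ψ ∈ T, (ψ : SLG → ℂ) (c : SLG) * conj ((ψ : SLG → ℂ) 1) =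
      (ψ : SLG → ℂ) (c : SLG) * ((Fintype.card F : ℂ) - 1) := by
    intro ψ hψ
    rw [hT, Finset.mem_filter] at hψ
    obtain ⟨k, hk⟩ := odd_card h2
    rw [Chars.conj_map_one (Chars.isCharacter_coe ψ), apply_one_pat h2 hν, hψ.2]
    congr 1
    simp [patDeg, hk]
    try ring
  have hst : (stChar F : SLG → ℂ) (c : SLG) = -1 := by
    show stFun F _ = _
    simp [stFun, P_apply_nonsplit _ hns]
  have hh1 := hh χ hχ
  have hh2 := hh χ' (by rcases hpp with ⟨-, hb⟩ | ⟨-, hb⟩
                        · exact Or.inr hb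
                        · exact Or.inl hb)
  rw [Finset.sum_congr rfl hdeg, ← Finset.sum_mul, hst, ← hx, hx',
    Chars.conj_map_one (Chars.isCharacter_coe χ), Chars.conj_map_one (Chars.isCharacter_coe χ'),
    Chars.conj_map_one (Chars.isCharacter_coe (stChar F)), hh1, hh2, stChar_one,
    Chars.oneChar_apply, Chars.oneChar_apply, map_one] at horth
  -- the sum over the pattern `(0, 1, 1)`
  have hsum := (torus_main h2 hC hcard hν).2 (c : SLG)
  rw [← hT, Finset.sum_congr rfl (fun θ _ => piC_torus h2 hC hcard θ c)] at hsum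
  simp only [hz, ↓reduceIte] at hsum
  have hc1 : c ≠ 1 := fun h => hz (by rw [h, OneMemClass.coe_one]; exact one_mem _)
  have hall : ∑ θ : C →* ℂˣ, -((θ c : ℂ) + (((θ c)⁻¹ : ℂˣ) : ℂ)) = 0 := by
    rw [Finset.sum_neg_distrib, Finset.sum_add_distrib, sum_theta_apply hC hc1, zero_add,
      neg_eq_zero]
    rw [← sum_theta_apply hC hc1]
    exact Fintype.sum_equiv (Equiv.inv _) _ _ fun θ => by simp
  rw [← Finset.sum_filter_add_sum_filter_not _ (fun θ : C →* ℂˣ => θ * θ = 1), hf,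
    Finset.sum_pair (Ne.symm hne)] at hall
  have hinv : (((θ₀ c)⁻¹ : ℂˣ) : ℂ) = θ₀ c := by
    rw [Units.val_inv_eq_inv_val, hθ₀]
    split_ifs <;> norm_num
  simp only [MonoidHom.one_apply, inv_one, Units.val_one, hinv, add_zero] at hall hsum
  have hq1 : (Fintype.card F : ℂ) - 1 ≠ 0 := by
    rw [← card_units_cast]; exact card_units_cast_ne_zero
  have hfin : x = -(θ₀ c : ℂ) := mul_left_cancel₀ hq1 (by
    linear_combination horth -
      ((Fintype.card F : ℂ) - 1) / 2 * hsum - ((Fintype.card F : ℂ) - 1) / 2 * hall)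
  rw [hfin, hθ₀]
  split_ifs <;> norm_num

/-- Diagonal values of the constituents of the quadratic principal series character. -/
theorem apply_d_half (h2 : (2 : F) ≠ 0) {ν : F} (hν : ¬ IsSquare ν) {χ φ : IrrCharacter SLG}
    {α : MulChar F ℂ} (hα : α ^ 2 = 1) (hα1 : α ≠ 1)
    (he : P α = (χ : SLG → ℂ) + (φ : SLG → ℂ)) {a : Fˣ} (ha : a * a ≠ 1) :
    (χ : SLG → ℂ) (d a) = chiQ F a := by
  obtain ⟨α₀, -, -, hS⟩ := exists_quad h2
  have hmem : ∀ β : MulChar F ℂ, β ^ 2 = 1 → β ≠ 1 → β = α₀ := by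
    intro β hβ hβ1
    have hm : β ∈ Finset.univ.filter (fun β : MulChar F ℂ => β ^ 2 = 1) :=
      Finset.mem_filter.2 ⟨Finset.mem_univ _, hβ⟩
    rw [hS, Finset.mem_insert, Finset.mem_singleton] at hm
    exact hm.resolve_left hβ1
  obtain rfl : α = chiQ F := (hmem α hα hα1).trans
    (hmem _ chiQ_isQuadratic.sq_eq_one (chiQ_ne_one h2)).symm
  have hd : twist (Units.mk0 ν (ne_zero_of_not_isSquare hν)) (d a : SLG) = d a := by
    apply ext4 <;> simp [twist]
  have h := congrFun he (d a)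
  have h' := P_apply_split (chiQ F) ha 0
  rw [u_zero, mul_one] at h'
  rw [h', Pi.add_apply, ← twistChar_half h2 hν hα hα1 he, twistChar_apply, hd,
    Units.val_inv_eq_inv_val, ← MulChar.inv_apply', chiQ_isQuadratic.inv] at h
  linear_combination -h / 2

end CfsgLib.Sl2Chars
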