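import Cfsg.Prelude.Def_DegreeGraph
import Cfsg.Agent.Eq.Def_DegreeGraph
import Cfsg.Agent.Sl2Chars.TorusCount

/-!
# Character degrees of `SL₂` and `PSL₂`
-/

set_option autoImplicit false
set_option linter.unusedSectionVars false

noncomputable section

namespace CfsgLib.Sl2Chars

open Cfsg CfsgLib.SL2
open scoped ComplexConjugate

variable {F : Type*} [Field F] [Fintype F] [DecidableEq F]

local notation "SLG" => Matrix.SpecialLinearGroup (Fin 2) F
local notation "PSLG" => Matrix.ProjectiveSpecialLinearGroup (Fin 2) F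

lemma charDegrees_congr {S H : Type*} [Group S] [Group H] (e : S ≃* H) :
    charDegrees S = charDegrees H := by
  refine Set.ext fun d => ⟨?_, ?_⟩
  · rintro ⟨χ, rfl⟩
    exact ⟨Chars.irrEquiv e χ, by simp [charDegree, Chars.irrEquiv]⟩
  · rintro ⟨χ, rfl⟩
    exact ⟨(Chars.irrEquiv e).symm χ, by simp [charDegree, Chars.irrEquiv]⟩

lemma charDegrees_psl_subset : charDegrees PSLG ⊆ charDegrees SLG := by
  rintro _ ⟨χ, rfl⟩
  exact ⟨Chars.inflate _ χ, Chars.charDegree_inflate _ χ⟩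

lemma mem_charDegrees_psl {χ : IrrCharacter SLG} (h : (χ : SLG → ℂ) (-1) = (χ : SLG → ℂ) 1)
    {n : ℕ} (hn : (χ : SLG → ℂ) 1 = n) : n ∈ charDegrees PSLG := by
  have hker : Subgroup.center SLG ≤ Chars.charKer (χ : SLG → ℂ) := by
    intro z hz
    rw [Chars.mem_charKer_iff (Chars.isCharacter_coe χ)]
    rcases mem_center_iff'.1 hz with rfl | rfl
    · rfl
    · exact h
  obtain ⟨ψ, hψ⟩ := Chars.exists_inflate_eq _ χ hker
  refine ⟨ψ, ?_⟩
  rw [← Chars.charDegree_inflate _ ψ, hψ]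
  exact Chars.charDegree_eq_of_map_one hn

lemma P_neg_one (α : MulChar F ℂ) :
    P α (-1 : SLG) = ((Fintype.card F : ℂ) + 1) * α (-1) := by
  have h' := P_apply_d_mul_u α (-1) 0
  rw [u_zero, mul_one, d_neg_one] at h'
  simp at h'
  rw [h']
  ring

lemma stChar_neg_one : (stChar F : SLG → ℂ) (-1) = (stChar F : SLG → ℂ) 1 := by
  show stFun F _ = stFun F _
  simp only [stFun, P_neg_one, P_one, MulChar.one_apply (IsUnit.neg isUnit_one), mul_one]

lemma exists_mulChar_order :
    ∃ β : MulChar F ℂ, ∀ n : ℕ, β ^ n = 1 → Fintype.card F - 1 ∣ n := by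
  obtain ⟨g, hg⟩ := IsCyclic.exists_generator (α := Fˣ)
  obtain ⟨e⟩ := MulChar.mulEquiv_units F ℂ
  refine ⟨e.symm g, fun n hn => ?_⟩
  have h : g ^ n = 1 := by
    have := congrArg e hn
    rwa [map_pow, MulEquiv.apply_symm_apply, map_one] at this
  rw [← Fintype.card_units, ← Nat.card_eq_fintype_card, ← orderOf_eq_card_of_forall_mem_zpowers hg]
  exact orderOf_dvd_of_pow_eq_one h

/-- The degree `q + 1` occurs in `PSL₂`. -/
theorem add_one_mem_charDegrees (h : 5 < Fintype.card F ∨ (4 ≤ Fintype.card F ∧ CharP F 2)) :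
    Fintype.card F + 1 ∈ charDegrees PSLG := by
  obtain ⟨β, hβ⟩ := exists_mulChar_order (F := F)
  obtain ⟨α, hα, hα2⟩ : ∃ α : MulChar F ℂ, α (-1) = 1 ∧ α ^ 2 ≠ 1 := by
    rcases h with h5 | ⟨h4, hc⟩
    · refine ⟨β ^ 2, ?_, fun h => ?_⟩
      · rw [MulChar.pow_apply' _ (by norm_num), ← map_pow, neg_one_sq, MulChar.map_one]
      · rw [← pow_mul] at h
        have := Nat.le_of_dvd (by norm_num) (hβ _ h)
        omega
    · refine ⟨β, ?_, fun h => ?_⟩
      · rw [CharTwo.neg_eq, MulChar.map_one]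
      · have := Nat.le_of_dvd (by norm_num) (hβ _ h)
        omega
  refine mem_charDegrees_psl (χ := ⟨P α, (P_isIrr_iff α).2 hα2⟩) ?_ ?_
  · show P α _ = P α _
    rw [P_neg_one, P_one, hα, mul_one]
  · show P α 1 = _
    rw [P_one, Nat.cast_add_one]

/-- The degree `q` occurs in `PSL₂`. -/
theorem card_mem_charDegrees : Fintype.card F ∈ charDegrees PSLG :=
  mem_charDegrees_psl stChar_neg_one stChar_one

/-- The degree `q - 1` occurs in `PSL₂`. -/
theorem sub_one_mem_charDegrees (h : 5 < Fintype.card F ∨ (4 ≤ Fintype.card F ∧ CharP F 2)) :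
    Fintype.card F - 1 ∈ charDegrees PSLG := by
  classical
  have hq := Fintype.one_lt_card (α := F)
  rcases two_ne_zero_or_charTwo (F := F) with h2 | h2
  · have h5 : 5 < Fintype.card F := by
      rcases h with h | ⟨-, hc⟩
      · exact h
      · exact absurd CharTwo.two_eq_zero h2
    obtain ⟨g, -, hC, hcard⟩ := exists_card_centralizer_eq_add_one (F := F)
    set C := Subgroup.centralizer ({g} : Set SLG)
    obtain ⟨θ, hθ, hz⟩ : ∃ θ : C →* ℂˣ, θ * θ ≠ 1 ∧ negVal h2 hcard θ = 1 := by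
      obtain ⟨x, hx⟩ := hC.exists_generator
      have hx4 : x ^ 4 ≠ 1 := fun h4 => by
        have := Nat.le_of_dvd (by norm_num) (orderOf_dvd_of_pow_eq_one h4)
        rw [orderOf_eq_card_of_forall_mem_zpowers hx, hcard] at this
        omega
      obtain ⟨l, hl⟩ := Chars.exists_linChar_ne_one (g := x ^ 4)
        (by rw [torus_commutator hC, Subgroup.mem_bot]; exact hx4)
      refine ⟨l * l, fun hll => hl ?_, ?_⟩
      · have h' : l x * l x * (l x * l x) = 1 := DFunLike.congr_fun hll x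
        rw [map_pow, ← h', pow_succ, pow_succ, pow_succ, pow_one, mul_assoc (l x * l x)]
      · show ((l _ * l _ : ℂˣ) : ℂ) = 1
        rw [← map_mul, show (⟨-1, neg_one_mem_torus h2 hcard⟩ : C) *
          ⟨-1, neg_one_mem_torus h2 hcard⟩ = 1 from Subtype.ext (by simp), map_one, Units.val_one]
    refine mem_charDegrees_psl (χ := piIrr h2 hC hcard θ hθ) ?_ ?_
    · rw [piIrr_coe, piC_one h2 hC hcard]
      have e := piC_torus h2 hC hcard θ ⟨-1, neg_one_mem_torus h2 hcard⟩
      rw [if_pos neg_one_mem_center, Units.val_inv_eq_inv_val] at e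
      rw [negVal] at hz
      rw [e, hz]
      ring
    · rw [piIrr_coe, piC_one h2 hC hcard, Nat.cast_sub (by omega), Nat.cast_one]
  · have hc : 0 < (Finset.univ.filter fun χ : IrrCharacter SLG => patTwo χ = (0, 1)).card := by
      rw [pos_iff_ne_zero]
      intro h0
      have := sum_patTwo (F := F) fun p => if p = (0, 1) then (1 : ℂ) else 0
      rw [← Finset.natCast_card_filter, h0] at this
      norm_num at this
      exact card_cast_ne_zero (F := F) (by linear_combination -2 * this)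
    obtain ⟨χ, hχ⟩ := Finset.card_pos.1 hc
    rw [Finset.mem_filter] at hχ
    refine mem_charDegrees_psl (χ := χ) (by rw [neg_one_eq_one]) ?_
    rw [apply_one_patTwo, hχ.2]
    simp [patTwoDeg]

/-- The degrees of `SL₂`. -/
theorem charDegrees_cases {d : ℕ} (hd : d ∈ charDegrees SLG) :
    d = 1 ∨ d = Fintype.card F ∨ d = Fintype.card F + 1 ∨ d = Fintype.card F - 1 ∨
      ((2 : F) ≠ 0 ∧ (d = (Fintype.card F + 1) / 2 ∨ d = (Fintype.card F - 1) / 2)) := by
  obtain ⟨χ, rfl⟩ := hd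
  have hn := (Chars.coe_charDegree χ).symm
  rcases two_ne_zero_or_charTwo (F := F) with h2 | h2
  · obtain ⟨ν, hν⟩ := exists_nonsquare h2
    rcases pat_deg_cases h2 hν χ hn with ⟨-, e⟩ | ⟨-, e⟩ | ⟨-, e⟩ | ⟨-, e⟩ | ⟨-, e⟩ | ⟨-, e⟩ <;>
      simp [h2, e]
  · rcases patTwo_deg_cases χ hn with ⟨-, e⟩ | ⟨-, e⟩ | ⟨-, e⟩ | ⟨-, e⟩ <;> simp [e]

/-- A group isomorphic to `PSL₂` or `SL₂` has these degrees. -/
theorem charDegrees_facts {S : Type*} [Group S]
    (hS : Nonempty (S ≃* PSLG) ∨ Nonempty (S ≃* SLG))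
    (h : 5 < Fintype.card F ∨ (4 ≤ Fintype.card F ∧ CharP F 2)) :
    (Fintype.card F ∈ charDegrees S ∧ Fintype.card F + 1 ∈ charDegrees S ∧
      Fintype.card F - 1 ∈ charDegrees S) ∧
    charDegrees S ⊆ charDegrees SLG := by
  rcases hS with ⟨⟨e⟩⟩ | ⟨⟨e⟩⟩
  · rw [charDegrees_congr e]
    exact ⟨⟨card_mem_charDegrees, add_one_mem_charDegrees h, sub_one_mem_charDegrees h⟩,
      charDegrees_psl_subset⟩
  · rw [charDegrees_congr e]
    exact ⟨⟨charDegrees_psl_subset card_mem_charDegrees,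
      charDegrees_psl_subset (add_one_mem_charDegrees h),
      charDegrees_psl_subset (sub_one_mem_charDegrees h)⟩, Set.Subset.rfl⟩

end CfsgLib.Sl2Chars
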