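import Cfsg.Prelude.Def_Characters
import Cfsg.Agent.Eq.Def_Characters
import Cfsg.Agent.Chars.Basic
import Cfsg.Agent.Chars.Induced.Rep
import Cfsg.Agent.SL2.Elements
import Mathlib.NumberTheory.MulChar.Duality

/-!
# Characters of `SL₂` over a finite field: the principal series

`P α` is the character induced from `b ↦ α (b 0 0)` on the Borel subgroup. For a class function
`f`, the inner products with the `P α` are the Fourier coefficients of `a ↦ restAvg f a`.
-/

set_option autoImplicit false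
set_option linter.unusedSectionVars false

noncomputable section

namespace CfsgLib.Sl2Chars

open Cfsg CfsgLib.SL2
open scoped ComplexConjugate

variable {F : Type*} [Field F] [Fintype F] [DecidableEq F]

local notation "SLG" => Matrix.SpecialLinearGroup (Fin 2) F

/-- Fintype structure on the complex multiplicative characters. -/
scoped instance instFintypeMulCharSl2 : Fintype (MulChar F ℂ) := Fintype.ofFinite _

/-- The Borel subgroup is parametrised by `(a, t) ↦ d a * u t`. -/
def bEquiv : Fˣ × F ≃ (B : Subgroup SLG) :=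
  Equiv.ofBijective
    (fun p => ⟨d p.1 * u p.2, mul_mem (T_le_B (d_mem_T _)) (U_le_B (u_mem_U _))⟩) <| by
    constructor
    · rintro ⟨a, t⟩ ⟨a', t'⟩ h
      have h' := congrArg Subtype.val h
      have h0 := congrArg (fun x : SLG => x 0 0) h'
      have h1 := congrArg (fun x : SLG => x 0 1) h'
      simp [Matrix.mul_apply, Fin.sum_univ_two] at h0 h1
      obtain rfl : a = a' := Units.ext h0
      simp at h1
      rw [h1]
    · rintro ⟨g, hg⟩
      obtain ⟨t, a, rfl⟩ := eq_u_mul_d hg
      refine ⟨(a, ((a⁻¹ : Fˣ) : F) ^ 2 * t), Subtype.ext ?_⟩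
      show d a * u _ = _
      apply ext4 <;> simp [Matrix.mul_apply, Fin.sum_univ_two]
      field_simp

lemma bEquiv_coe (p : Fˣ × F) : ((bEquiv p : (B : Subgroup SLG)) : SLG) = d p.1 * u p.2 := rfl

lemma d_mul_u_zero_zero (a : Fˣ) (t : F) : (d a * u t : SLG) 0 0 = (a : F) := by
  simp [Matrix.mul_apply, Fin.sum_univ_two]

/-- An element of `B` is `d a * u t`. -/
lemma exists_eq_d_mul_u {g : SLG} (hg : g ∈ (B : Subgroup SLG)) :
    ∃ (a : Fˣ) (t : F), g = d a * u t :=
  ⟨(bEquiv.symm ⟨g, hg⟩).1, (bEquiv.symm ⟨g, hg⟩).2, by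
    rw [← bEquiv_coe, Equiv.apply_symm_apply]⟩

lemma card_units_cast : (Fintype.card Fˣ : ℂ) = (Fintype.card F : ℂ) - 1 := by
  rw [Fintype.card_units, Nat.cast_sub Fintype.card_pos, Nat.cast_one]

lemma card_units_cast_ne_zero : (Fintype.card Fˣ : ℂ) ≠ 0 :=
  Nat.cast_ne_zero.2 Fintype.card_ne_zero

lemma card_cast_ne_zero : (Fintype.card F : ℂ) ≠ 0 := Nat.cast_ne_zero.2 Fintype.card_ne_zero

/-! ### Orthogonality of multiplicative characters -/

lemma conj_mulChar (α : MulChar F ℂ) (a : F) : conj (α a) = α⁻¹ a := by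
  rw [← MulChar.star_apply']; rfl

lemma sum_units (α : MulChar F ℂ) :
    ∑ a : Fˣ, α a = if α = 1 then (Fintype.card Fˣ : ℂ) else 0 := by
  classical
  have h := sum_hom_units ((α : F →* ℂ).comp (Units.coeHom F))
  simp only [MonoidHom.coe_comp, Function.comp_apply, Units.coeHom_apply,
    MonoidHom.coe_coe] at h
  rw [h, Nat.cast_ite, Nat.cast_zero]
  congr 1
  rw [eq_iff_iff, MonoidHom.ext_iff, MulChar.eq_one_iff]
  simp

lemma sum_mulChars (a : Fˣ) :
    ∑ α : MulChar F ℂ, α a = if a = 1 then (Fintype.card Fˣ : ℂ) else 0 := by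
  split_ifs with h
  · subst h
    simp only [Units.val_one, MulChar.map_one, Finset.sum_const, Finset.card_univ, nsmul_eq_mul,
      mul_one]
    rw [← Nat.card_eq_fintype_card, MulChar.card_eq_card_units_of_hasEnoughRootsOfUnity F ℂ,
      Nat.card_eq_fintype_card]
  · obtain ⟨β, hβ⟩ := MulChar.exists_apply_ne_one_of_hasEnoughRootsOfUnity F ℂ
      (a := (a : F)) (fun ha => h (Units.ext ha))
    have h' : ∑ α : MulChar F ℂ, α a = β a * ∑ α : MulChar F ℂ, α a := by
      rw [Finset.mul_sum]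
      refine (Fintype.sum_equiv (Equiv.mulLeft β) _ _ fun α => ?_).symm
      simp [MulChar.mul_apply]
    have : (β a - 1) * ∑ α : MulChar F ℂ, α a = 0 := by linear_combination -h'
    exact (mul_eq_zero.1 this).resolve_left (sub_ne_zero.2 hβ)

/-! ### The principal series -/

/-- The character induced from `b ↦ α (b 0 0)` on the Borel subgroup. -/
def P (α : MulChar F ℂ) : SLG → ℂ :=
  indFun (B : Subgroup SLG) fun b => α (((b : SLG) : Matrix (Fin 2) (Fin 2) F) 0 0)

/-- The linear character `b ↦ α (b 0 0)` of the Borel subgroup. -/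
def bChar (α : MulChar F ℂ) : (B : Subgroup SLG) →* ℂ where
  toFun b := α (((b : SLG) : Matrix (Fin 2) (Fin 2) F) 0 0)
  map_one' := by simp
  map_mul' x y := by
    have hy : ((y : SLG) : Matrix (Fin 2) (Fin 2) F) 1 0 = 0 := y.2
    simp [Matrix.mul_apply, Fin.sum_univ_two, hy]

lemma P_isCharacter (α : MulChar F ℂ) : IsCharacter SLG (P α) :=
  Chars.Induced.isCharacter_indFun_hom (B : Subgroup SLG) (bChar α)

lemma P_isClassFunction (α : MulChar F ℂ) : IsClassFunction SLG (P α) :=
  Chars.Induced.indFun_isClassFunction _ _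

lemma P_one (α : MulChar F ℂ) : P α 1 = (Fintype.card F : ℂ) + 1 := by
  rw [P, Chars.Induced.indFun_one_apply, B_index]
  simp

/-- The parametrisation of the complement of `B`. -/
def split (x : ↥(B : Subgroup SLG) ⊕ (F × ↥(B : Subgroup SLG))) : SLG :=
  Sum.elim (fun b : ↥(B : Subgroup SLG) => (b : SLG))
    (fun p : F × ↥(B : Subgroup SLG) => u p.1 * w * (p.2 : SLG)) x

lemma split_bijective : Function.Bijective (split (F := F)) := by
  have hs : Function.Surjective (split (F := F)) := by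
    intro g
    by_cases hg : g ∈ (B : Subgroup SLG)
    · exact ⟨Sum.inl ⟨g, hg⟩, rfl⟩
    · obtain ⟨x, y, a, rfl⟩ := bruhat hg
      refine ⟨Sum.inr (x, ⟨d a⁻¹ * u y, mul_mem (T_le_B (d_mem_T _)) (U_le_B (u_mem_U _))⟩), ?_⟩
      show u x * w * (d a⁻¹ * u y) = _
      apply ext4 <;> simp [Matrix.mul_apply, Fin.sum_univ_two]
      ring
  refine (Nat.bijective_iff_surjective_and_card _).2 ⟨hs, ?_⟩
  rw [Nat.card_sum, Nat.card_prod, ← (B : Subgroup SLG).card_mul_index, B_index,
    Nat.card_eq_fintype_card (α := F)]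
  ring

/-- Value of an induced class function, split along the Bruhat decomposition. -/
lemma indFun_B_apply (θ : ↥(B : Subgroup SLG) → ℂ) (hθ : IsClassFunction ↥(B : Subgroup SLG) θ) (g : SLG) :
    indFun B θ g = extendByZero B θ g +
      ∑ s : F, extendByZero B θ ((u s * w)⁻¹ * g * (u s * w)) := by
  classical
  have hB : (Nat.card (B : Subgroup SLG) : ℂ) ≠ 0 := Nat.cast_ne_zero.2 Nat.card_pos.ne'
  have key : ∀ (y : SLG) (b : (B : Subgroup SLG)),
      extendByZero B θ ((y * b)⁻¹ * g * (y * b)) = extendByZero B θ (y⁻¹ * g * y) := by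
    intro y b
    rw [← Chars.Induced.extendByZero_conj hθ b⁻¹ (y⁻¹ * g * y)]
    congr 1
    simp [mul_assoc]
  simp only [indFun]
  rw [← (Equiv.ofBijective _ (split_bijective (F := F))).sum_comp, Fintype.sum_sum_type,
    Fintype.sum_prod_type]
  simp only [Equiv.ofBijective_apply, split, Sum.elim_inl, Sum.elim_inr, key]
  have h1 : ∀ b : (B : Subgroup SLG), extendByZero B θ ((b : SLG)⁻¹ * g * b) =
      extendByZero B θ g := fun b => by simpa using key 1 b
  simp only [h1, Finset.sum_const, Finset.card_univ, ← Nat.card_eq_fintype_card, nsmul_eq_mul,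
    ← Finset.mul_sum]
  rw [← mul_add, inv_mul_cancel_left₀ hB]

lemma P_class (α : MulChar F ℂ) : IsClassFunction ↥(B : Subgroup SLG)
    (fun b => α (((b : SLG) : Matrix (Fin 2) (Fin 2) F) 0 0)) := fun g h => by
  show bChar α (h * g * h⁻¹) = bChar α g
  rw [map_mul, map_mul, mul_comm _ (bChar α h⁻¹), ← mul_assoc, ← map_mul, inv_mul_cancel,
    map_one, one_mul]

/-- The value of `P α` on the Borel subgroup. -/
lemma P_apply_d_mul_u (α : MulChar F ℂ) (a : Fˣ) (t : F) :
    P α (d a * u t) = α a + ((Finset.univ.filter fun s : F =>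
      (a : F) * t + ((a : F) - ((a⁻¹ : Fˣ) : F)) * s = 0).card : ℂ) * α ((a⁻¹ : Fˣ) : F) := by
  rw [P, indFun_B_apply _ (P_class α), Chars.Induced.extendByZero_mem _
    (mul_mem (T_le_B (d_mem_T a)) (U_le_B (u_mem_U t)))]
  congr 1
  · rw [d_mul_u_zero_zero]
  rw [Finset.card_filter, Nat.cast_sum, Finset.sum_mul]
  refine Finset.sum_congr rfl fun s _ => ?_
  have e : ((u s * w)⁻¹ * (d a * u t) * (u s * w) : SLG) =
      mk4 ((a⁻¹ : Fˣ) : F) 0 (-((a : F) * t + ((a : F) - ((a⁻¹ : Fˣ) : F)) * s)) (a : F)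
        (by simp) := by
    rw [mul_assoc, inv_mul_eq_iff_eq_mul]
    apply ext4 <;> simp [Matrix.mul_apply, Fin.sum_univ_two] <;> ring
  rw [e]
  split_ifs with h
  · rw [Chars.Induced.extendByZero_mem _ (show _ ∈ (B : Subgroup SLG) by rw [mem_B]; simpa using neg_eq_zero.2 h)]
    simp
  · rw [Chars.Induced.extendByZero_notMem _ (by
      rw [mem_B]; intro h'; exact h (neg_eq_zero.1 (by simpa using h')))]
    simp

lemma sq_ne_one_iff {a : Fˣ} : (a : F) - ((a⁻¹ : Fˣ) : F) ≠ 0 ↔ a * a ≠ 1 := by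
  rw [sub_ne_zero, ne_eq, Units.val_inj, eq_inv_iff_mul_eq_one]

/-- On regular split elements. -/
lemma P_apply_split (α : MulChar F ℂ) {a : Fˣ} (ha : a * a ≠ 1) (t : F) :
    P α (d a * u t) = α a + α ((a⁻¹ : Fˣ) : F) := by
  rw [P_apply_d_mul_u]
  have h0 := sq_ne_one_iff.2 ha
  rw [show (Finset.univ.filter fun s : F =>
      (a : F) * t + ((a : F) - ((a⁻¹ : Fˣ) : F)) * s = 0) =
      {-((a : F) * t) / ((a : F) - ((a⁻¹ : Fˣ) : F))} from ?_, Finset.card_singleton,
    Nat.cast_one, one_mul]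
  ext s
  simp only [Finset.mem_filter, Finset.mem_univ, true_and, Finset.mem_singleton]
  rw [eq_div_iff h0]
  constructor <;> intro h <;> linear_combination h

/-- On nontrivial central-times-unipotent elements. -/
lemma P_apply_unip (α : MulChar F ℂ) {a : Fˣ} (ha : a * a = 1) {t : F} (ht : t ≠ 0) :
    P α (d a * u t) = α a := by
  rw [P_apply_d_mul_u]
  have h0 : (a : F) - ((a⁻¹ : Fˣ) : F) = 0 := by
    by_contra h; exact sq_ne_one_iff.1 h ha
  rw [h0]
  simp [ht]

/-- No conjugate in the Borel subgroup: value zero. -/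
lemma P_apply_nonsplit (α : MulChar F ℂ) {g : SLG} (hg : ¬ IsSplitTrace (tr g)) : P α g = 0 := by
  rw [P, indFun, mul_eq_zero]
  refine Or.inr (Finset.sum_eq_zero fun x _ => Chars.Induced.extendByZero_notMem _ fun hx => hg ?_)
  obtain ⟨a, t, h⟩ := exists_eq_d_mul_u hx
  refine ⟨a, ?_⟩
  have h1 : tr (x⁻¹ * g * x) = tr g := by simpa using tr_conj g x⁻¹
  rw [← h1, h]
  simp [tr, Matrix.mul_apply, Fin.sum_univ_two]

/-! ### Inner products with the principal series -/

/-- The average of `f` over the coset `d a * U`. -/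
def restAvg (f : SLG → ℂ) (a : Fˣ) : ℂ :=
  (Fintype.card F : ℂ)⁻¹ * ∑ t : F, f (d a * u t)

lemma classInner_P {f : SLG → ℂ} (hf : IsClassFunction SLG f) (α : MulChar F ℂ) :
    classInner f (P α) = (Fintype.card Fˣ : ℂ)⁻¹ * ∑ a : Fˣ, α⁻¹ a * restAvg f a := by
  classical
  rw [P, Chars.Induced.classInner_indFun_right _ _ hf, classInner,
    Nat.card_congr (bEquiv (F := F)).symm, Nat.card_prod, ← (bEquiv (F := F)).sum_comp,
    Fintype.sum_prod_type, Nat.card_eq_fintype_card, Nat.card_eq_fintype_card]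
  simp only [bEquiv_coe, d_mul_u_zero_zero, conj_mulChar, restAvg, Nat.cast_mul, mul_inv,
    Finset.mul_sum]
  refine Finset.sum_congr rfl fun a _ => Finset.sum_congr rfl fun t _ => ?_
  ring

/-- Fourier inversion: the `P α` detect the averages over the cosets `d a * U`. -/
lemma sum_mul_classInner_P {f : SLG → ℂ} (hf : IsClassFunction SLG f) (a : Fˣ) :
    ∑ α : MulChar F ℂ, α a * classInner f (P α) = restAvg f a := by
  simp only [classInner_P hf, Finset.mul_sum]
  rw [Finset.sum_comm]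
  have h : ∀ b : Fˣ, ∑ α : MulChar F ℂ, α a * ((Fintype.card Fˣ : ℂ)⁻¹ * (α⁻¹ b * restAvg f b)) =
      if a = b then restAvg f b else 0 := by
    intro b
    have e : ∀ α : MulChar F ℂ, α a * ((Fintype.card Fˣ : ℂ)⁻¹ * (α⁻¹ b * restAvg f b)) =
        (Fintype.card Fˣ : ℂ)⁻¹ * restAvg f b * α ((a * b⁻¹ : Fˣ) : F) := by
      intro α
      rw [MulChar.inv_apply', Units.val_mul, map_mul, Units.val_inv_eq_inv_val]
      ring
    simp only [e, ← Finset.mul_sum, sum_mulChars, mul_inv_eq_one]
    split_ifs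
    · field_simp [card_units_cast_ne_zero (F := F)]
    · rw [mul_zero]
  simp [h]

lemma sum_classInner_P {f : SLG → ℂ} (hf : IsClassFunction SLG f) :
    ∑ α : MulChar F ℂ, classInner f (P α) = restAvg f 1 := by
  simpa using sum_mul_classInner_P hf 1

lemma restAvg_P (α : MulChar F ℂ) (a : Fˣ) : restAvg (P α) a = α a + α⁻¹ a := by
  simp only [restAvg, P_apply_d_mul_u, Finset.sum_add_distrib, Finset.sum_const, Finset.card_univ,
    nsmul_eq_mul, ← Finset.sum_mul, ← Nat.cast_sum]
  have h : ∑ t : F, (Finset.univ.filter fun s : F =>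
      (a : F) * t + ((a : F) - ((a⁻¹ : Fˣ) : F)) * s = 0).card = Fintype.card F := by
    simp only [Finset.card_filter]
    rw [Finset.sum_comm, ← Finset.card_univ, Finset.card_eq_sum_ones]
    refine Finset.sum_congr rfl fun s _ => ?_
    rw [← Finset.card_filter, Finset.card_eq_one]
    refine ⟨-(((a : F) - ((a⁻¹ : Fˣ) : F)) * s) / a, ?_⟩
    ext t
    simp only [Finset.mem_filter, Finset.mem_univ, true_and, Finset.mem_singleton,
      eq_div_iff a.ne_zero]
    constructor <;> intro h' <;> linear_combination h'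
  rw [h, MulChar.inv_apply', Units.val_inv_eq_inv_val]
  field_simp [card_cast_ne_zero (F := F)]

lemma classInner_P_P (α β : MulChar F ℂ) :
    classInner (P α) (P β) = (if α = β then 1 else 0) + (if α⁻¹ = β then 1 else 0) := by
  classical
  rw [classInner_P (P_isClassFunction α)]
  simp only [restAvg_P, mul_add, ← MulChar.mul_apply, Finset.sum_add_distrib, sum_units,
    inv_mul_eq_one, eq_comm (a := β)]
  split_ifs <;> simp [card_units_cast_ne_zero]

/-- `P α` is irreducible iff `α² ≠ 1`. -/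
theorem P_isIrr_iff (α : MulChar F ℂ) : IsIrrCharacter SLG (P α) ↔ α ^ 2 ≠ 1 := by
  rw [Chars.isIrrCharacter_iff, classInner_P_P, if_pos rfl, sq, ne_eq, ← inv_eq_iff_mul_eq_one]
  constructor
  · rintro ⟨-, h⟩ hα
    rw [if_pos hα] at h
    norm_num at h
  · intro h
    exact ⟨P_isCharacter α, by rw [if_neg h, add_zero]⟩

lemma P_inv (α : MulChar F ℂ) : P α⁻¹ = P α := by
  refine Chars.eq_of_classInner_eq (P_isClassFunction _) (P_isClassFunction _) fun χ => ?_
  rw [← Chars.classInner_conj_symm, ← Chars.classInner_conj_symm (f := (χ : SLG → ℂ))]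
  congr 1
  have hc := Chars.isClassFunction_coe χ
  rw [classInner_P hc, classInner_P hc, inv_inv]
  congr 1
  refine Fintype.sum_equiv (Equiv.inv Fˣ) _ _ fun a => ?_
  rw [Equiv.inv_apply, MulChar.inv_apply', Units.val_inv_eq_inv_val, inv_inv]
  congr 1
  -- `d a * U` and `d a⁻¹ * U` have the same average
  unfold restAvg
  congr 1
  by_cases ha : a * a = 1
  · rw [inv_eq_of_mul_eq_one_right ha]
  · have h2 : ∀ b : Fˣ, b * b ≠ 1 → ∀ t, (χ : SLG → ℂ) (d b * u t) = (χ : SLG → ℂ) (d b) := by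
      intro b hb t
      refine Chars.eq_of_isConj hc (isConj_of_tr_eq ?_ (by simp [tr, Matrix.mul_apply]))
      intro h4
      simp [tr, Matrix.mul_apply] at h4
      exact sq_ne_one_iff.2 hb (mul_self_eq_zero.1 (by
        have : (b : F) * ((b : F))⁻¹ = 1 := mul_inv_cancel₀ b.ne_zero
        rw [Units.val_inv_eq_inv_val]
        linear_combination h4 - 4 * this))
    simp only [h2 a ha, h2 a⁻¹ (by rwa [← mul_inv, ne_eq, inv_eq_one])]
    refine Finset.sum_congr rfl fun _ _ => Chars.eq_of_isConj hc ?_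
    exact isConj_iff.2 ⟨w, w_conj_d a⟩

end CfsgLib.Sl2Chars
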