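import Cfsg.Agent.Sl2Chars.Unip

/-!
# Characters of `SL₂`: constituents of the principal series

Every irreducible character with nonzero multiplicity `nU χ 0` of the trivial character of `U` is
a constituent of some `P α`; `P α` is irreducible for `α² ≠ 1` and the sum of two distinct
irreducible characters otherwise. The remaining characters vanish on regular split elements.
-/

set_option autoImplicit false
set_option linter.unusedSectionVars false

noncomputable section

namespace CfsgLib.Sl2Chars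

open Cfsg CfsgLib.SL2
open scoped ComplexConjugate

variable {F : Type*} [Field F] [Fintype F] [DecidableEq F]

local notation "SLG" => Matrix.SpecialLinearGroup (Fin 2) F

/-- `mU` of an irreducible character, as a natural number. -/
def nU (χ : IrrCharacter SLG) (b : F) : ℕ := (exists_nat_mU (Chars.isCharacter_coe χ) b).choose

lemma nU_spec (χ : IrrCharacter SLG) (b : F) : mU (χ : SLG → ℂ) b = nU χ b :=
  (exists_nat_mU (Chars.isCharacter_coe χ) b).choose_spec

lemma nU_eq {χ : IrrCharacter SLG} {b : F} {n : ℕ} (h : mU (χ : SLG → ℂ) b = n) : nU χ b = n :=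
  Nat.cast_injective (R := ℂ) ((nU_spec χ b).symm.trans h)

/-- A class function is constant on the coset `d a * U` of a regular split element. -/
lemma apply_d_mul_u_split {f : SLG → ℂ} (hf : IsClassFunction SLG f) {a : Fˣ} (ha : a * a ≠ 1)
    (t : F) : f (d a * u t) = f (d a) := by
  refine Chars.eq_of_isConj hf (isConj_of_tr_eq ?_ (by simp [tr, Matrix.mul_apply]))
  intro h4
  simp [tr, Matrix.mul_apply] at h4
  refine sq_ne_one_iff.2 ha (mul_self_eq_zero.1 ?_)
  have : (a : F) * ((a : F))⁻¹ = 1 := mul_inv_cancel₀ a.ne_zero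
  rw [Units.val_inv_eq_inv_val]
  linear_combination h4 - 4 * this

lemma restAvg_split {f : SLG → ℂ} (hf : IsClassFunction SLG f) {a : Fˣ} (ha : a * a ≠ 1) :
    restAvg f a = f (d a) := by
  simp [restAvg, apply_d_mul_u_split hf ha]

/-- The coefficient of `χ` in `P α`. -/
def cI (χ : IrrCharacter SLG) (α : MulChar F ℂ) : ℕ :=
  (Chars.exists_nat_classInner' (Chars.isCharacter_coe χ) (P_isCharacter α)).choose

lemma cI_spec (χ : IrrCharacter SLG) (α : MulChar F ℂ) :
    classInner (χ : SLG → ℂ) (P α) = cI χ α :=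
  (Chars.exists_nat_classInner' (Chars.isCharacter_coe χ) (P_isCharacter α)).choose_spec

lemma classInner_P_irr (χ : IrrCharacter SLG) (α : MulChar F ℂ) :
    classInner (P α) (χ : SLG → ℂ) = cI χ α := by
  rw [← Chars.classInner_conj_symm, cI_spec, map_natCast]

lemma sum_cI (χ : IrrCharacter SLG) : ∑ α : MulChar F ℂ, cI χ α = nU χ 0 := by
  apply Nat.cast_injective (R := ℂ)
  rw [Nat.cast_sum, ← nU_spec, mU_zero, ← sum_classInner_P (Chars.isClassFunction_coe χ)]
  exact Finset.sum_congr rfl fun α _ => (cI_spec χ α).symm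

lemma exists_cI_ne_zero {χ : IrrCharacter SLG} (h : nU χ 0 ≠ 0) :
    ∃ α : MulChar F ℂ, cI χ α ≠ 0 := by
  rw [← sum_cI] at h
  obtain ⟨α, -, hα⟩ := Finset.exists_ne_zero_of_sum_ne_zero h
  exact ⟨α, hα⟩

/-- Characters without trivial constituent on `U` vanish on regular split elements. -/
theorem apply_d_eq_zero {χ : IrrCharacter SLG} (h : nU χ 0 = 0) {a : Fˣ} (ha : a * a ≠ 1) :
    (χ : SLG → ℂ) (d a) = 0 := by
  have hc := Chars.isClassFunction_coe χ
  rw [← restAvg_split hc ha, ← sum_mul_classInner_P hc]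
  rw [← sum_cI, Finset.sum_eq_zero_iff] at h
  exact Finset.sum_eq_zero fun α hα => by rw [cI_spec, h α hα, Nat.cast_zero, mul_zero]

/-- For `α² ≠ 1` the only constituent of `P α` is itself. -/
lemma eq_P_of_cI {χ : IrrCharacter SLG} {α : MulChar F ℂ} (hα : α ^ 2 ≠ 1) (h : cI χ α ≠ 0) :
    (χ : SLG → ℂ) = P α := by
  have hP := (P_isIrr_iff α).2 hα
  by_contra hne
  have h0 := Chars.classInner_of_ne (χ := χ) (ψ := ⟨P α, hP⟩) fun he => hne (congrArg Subtype.val he)
  rw [cI_spec] at h0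
  exact h (by exact_mod_cast h0)

/-- For `α² = 1` a constituent `χ` of `P α` comes with one other, different, constituent. -/
lemma exists_partner {χ : IrrCharacter SLG} {α : MulChar F ℂ} (hα : α ^ 2 = 1) (h : cI χ α ≠ 0) :
    ∃ φ : IrrCharacter SLG, φ ≠ χ ∧ P α = (χ : SLG → ℂ) + (φ : SLG → ℂ) := by
  obtain ⟨φ, hφ, he⟩ := Chars.exists_add_of_classInner_ne_zero (P_isCharacter α) χ
    (by rw [classInner_P_irr]; exact_mod_cast h)
  obtain ⟨m, hm⟩ := Chars.exists_nat_classInner hφ χ
  obtain ⟨k, hk⟩ := Chars.exists_nat_classInner' hφ hφ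
  have h2 : classInner (P α) (P α) = 2 := by
    rw [classInner_P_P, if_pos rfl, if_pos (by rwa [inv_eq_iff_mul_eq_one, ← sq]), one_add_one_eq_two]
  have hm' : classInner (χ : SLG → ℂ) φ = m := by
    rw [← Chars.classInner_conj_symm, hm, map_natCast]
  have hadd : ∀ f : SLG → ℂ, classInner f ((χ : SLG → ℂ) + φ) =
      classInner f (χ : SLG → ℂ) + classInner f φ := by
    intro f
    rw [← Chars.classInner_conj_symm, Chars.classInner_add_left, map_add,
      Chars.classInner_conj_symm, Chars.classInner_conj_symm]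
  rw [he, hadd, Chars.classInner_add_left, Chars.classInner_add_left, hm, hk, hm',
    Chars.classInner_self] at h2
  have h3 : 1 + m + (m + k) = 2 := by exact_mod_cast h2
  have hk0 : k ≠ 0 := by
    intro hk0
    have hz : φ = 0 := by
      refine Chars.eq_zero_of_classInner_eq_zero (Chars.isClassFunction_of_isCharacter hφ) fun ψ => ?_
      obtain ⟨c, -, hc⟩ := Chars.exists_nat_coeff hφ
      have hp := Chars.classInner_eq_sum (Chars.isClassFunction_of_isCharacter hφ) φ
      simp only [hc, map_natCast, hk, hk0] at hp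
      have hp' : (0 : ℕ) = ∑ ψ : IrrCharacter SLG, c ψ * c ψ := by exact_mod_cast hp
      rw [hc, mul_self_eq_zero.1 (Finset.sum_eq_zero_iff.1 hp'.symm ψ (Finset.mem_univ ψ)),
        Nat.cast_zero]
    rw [hz, Chars.classInner_zero_left] at hm
    have : m = 0 := by exact_mod_cast hm.symm
    omega
  obtain ⟨rfl, rfl⟩ : m = 0 ∧ k = 1 := by omega
  refine ⟨⟨φ, Chars.isIrrCharacter_of_classInner_self hφ (by simpa using hk)⟩, fun heq => ?_, he⟩
  rw [← congrArg Subtype.val heq, Chars.classInner_self ⟨φ, _⟩] at hm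
  simp at hm

lemma cI_pair {χ φ : IrrCharacter SLG} {α : MulChar F ℂ}
    (he : P α = (χ : SLG → ℂ) + (φ : SLG → ℂ)) (ψ : IrrCharacter SLG) :
    cI ψ α = (if χ = ψ then 1 else 0) + (if φ = ψ then 1 else 0) := by
  apply Nat.cast_injective (R := ℂ)
  rw [← classInner_P_irr, he, Chars.classInner_add_left, Chars.classInner_irr, Chars.classInner_irr]
  push_cast
  rfl

/-- A constituent of `P α` for `α² = 1` has multiplicity one, and in no other `P β`. -/
lemma cI_eq_zero_of_ne {χ : IrrCharacter SLG} {α β : MulChar F ℂ} (hα : α ^ 2 = 1)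
    (h : cI χ α ≠ 0) (hne : β ≠ α) : cI χ β = 0 := by
  obtain ⟨φ, -, he⟩ := exists_partner hα h
  have h0 : classInner (P α) (P β) = 0 := by
    rw [classInner_P_P, if_neg (Ne.symm hne), if_neg, add_zero]
    rw [inv_eq_of_mul_eq_one_right (by rw [← sq]; exact hα)]
    exact Ne.symm hne
  rw [he, Chars.classInner_add_left, cI_spec, cI_spec] at h0
  have h0' : cI χ β + cI φ β = 0 := by exact_mod_cast h0
  omega

lemma nU_zero_of_sq_eq_one {χ : IrrCharacter SLG} {α : MulChar F ℂ} (hα : α ^ 2 = 1)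
    (h : cI χ α ≠ 0) : nU χ 0 = 1 := by
  rw [← sum_cI, Finset.sum_eq_single α (fun β _ hβ => cI_eq_zero_of_ne hα h hβ) (by simp)]
  obtain ⟨φ, hne, he⟩ := exists_partner hα h
  rw [cI_pair he, if_pos rfl, if_neg hne, add_zero]

lemma mU_add (f g : SLG → ℂ) (b : F) : mU (f + g) b = mU f b + mU g b := by
  simp [mU, add_mul, Finset.sum_add_distrib, mul_add]

lemma P_apply_u (α : MulChar F ℂ) (t : F) :
    P α (u t) = 1 + if t = 0 then (Fintype.card F : ℂ) else 0 := by
  split_ifs with h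
  · subst h; rw [u_zero, P_one, add_comm]
  · have := P_apply_unip α (a := (1 : Fˣ)) (by simp) h
    simpa using this

lemma mU_P (α : MulChar F ℂ) {b : F} (hb : b ≠ 0) : mU (P α) b = 1 := by
  simp only [mU, P_apply_u, ← neg_mul, add_mul, one_mul, Finset.sum_add_distrib, sum_psiC,
    neg_eq_zero, if_neg hb, zero_add, ite_mul, zero_mul]
  simp [card_cast_ne_zero]

lemma mU_P_zero (α : MulChar F ℂ) : mU (P α) 0 = 2 := by
  rw [mU_zero, restAvg_P]
  simp [one_add_one_eq_two]

lemma nU_of_sq_ne_one {χ : IrrCharacter SLG} {α : MulChar F ℂ} (hα : α ^ 2 ≠ 1)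
    (h : cI χ α ≠ 0) : nU χ 0 = 2 ∧ ∀ b : F, b ≠ 0 → nU χ b = 1 := by
  have he := eq_P_of_cI hα h
  exact ⟨nU_eq (by rw [he, mU_P_zero]; norm_num), fun b hb => nU_eq (by rw [he, mU_P α hb]; simp)⟩

lemma nU_partner {χ φ : IrrCharacter SLG} {α : MulChar F ℂ}
    (he : P α = (χ : SLG → ℂ) + (φ : SLG → ℂ)) {b : F} (hb : b ≠ 0) : nU χ b + nU φ b = 1 := by
  have h := mU_P α hb
  rw [he, mU_add, nU_spec, nU_spec] at h
  exact_mod_cast h

/-! ### The trivial character -/

lemma restAvg_oneChar (a : Fˣ) : restAvg (Chars.oneChar SLG : SLG → ℂ) a = 1 := by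
  simp [restAvg, card_cast_ne_zero]

lemma cI_oneChar (α : MulChar F ℂ) :
    cI (Chars.oneChar SLG) α = if α = 1 then 1 else 0 := by
  apply Nat.cast_injective (R := ℂ)
  rw [← cI_spec, classInner_P (Chars.isClassFunction_coe _)]
  simp only [restAvg_oneChar, mul_one, sum_units, inv_eq_one]
  split_ifs <;> simp [card_units_cast_ne_zero]

lemma nU_oneChar_zero : nU (Chars.oneChar SLG) 0 = 1 :=
  nU_eq (by rw [mU_zero, restAvg_oneChar, Nat.cast_one])

lemma nU_oneChar {b : F} (hb : b ≠ 0) : nU (Chars.oneChar SLG) b = 0 :=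
  nU_eq (by simp [mU, ← neg_mul, sum_psiC, hb])

/-- A linear character trivial on `U` is trivial. -/
lemma eq_oneChar {χ : IrrCharacter SLG} (h1 : (χ : SLG → ℂ) 1 = 1)
    (hu : ∀ t : F, (χ : SLG → ℂ) (u t) = 1) : χ = Chars.oneChar SLG := by
  obtain ⟨l, rfl⟩ := Chars.exists_linChar_eq χ h1
  rw [Chars.linChar_eq_oneChar_iff]
  have hU : ∀ t : F, l (u t) = 1 := fun t => Units.ext (by simpa using hu t)
  have hk : (⊤ : Subgroup SLG) ≤ l.ker := by
    rw [← U_sup_L, sup_le_iff]
    refine ⟨fun g hg => ?_, fun g hg => ?_⟩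
    · obtain ⟨t, rfl⟩ := mem_U.1 hg
      exact hU t
    · obtain ⟨t, rfl⟩ := mem_L.1 hg
      rw [MonoidHom.mem_ker, show CfsgLib.SL2.l t = w * u (-t) * w⁻¹ by rw [w_conj_u, neg_neg],
        map_mul, map_mul, hU, mul_one, map_inv, mul_inv_cancel]
  exact MonoidHom.ext fun g => hk (Subgroup.mem_top g)

/-- The Steinberg character `P 1 - 1`. -/
def stFun (F : Type*) [Field F] [Fintype F] [DecidableEq F] :
    Matrix.SpecialLinearGroup (Fin 2) F → ℂ := fun g => P (1 : MulChar F ℂ) g - 1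

theorem stFun_isIrr : IsIrrCharacter SLG (stFun F) := by
  obtain ⟨φ, -, he⟩ := exists_partner (χ := Chars.oneChar SLG) (α := (1 : MulChar F ℂ)) (one_pow 2)
    (by simp [cI_oneChar])
  convert φ.2
  funext g
  simp [stFun, congrFun he g]

/-- The Steinberg character as an irreducible character. -/
def stChar (F : Type*) [Field F] [Fintype F] [DecidableEq F] :
    IrrCharacter (Matrix.SpecialLinearGroup (Fin 2) F) := ⟨stFun F, stFun_isIrr⟩

lemma P_one_eq : P (1 : MulChar F ℂ) =
    (Chars.oneChar SLG : SLG → ℂ) + (stChar F : SLG → ℂ) := by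
  funext g
  simp [stChar, stFun]

lemma stChar_one : (stChar F : SLG → ℂ) 1 = Fintype.card F := by
  show P (1 : MulChar F ℂ) 1 - 1 = _
  rw [P_one]
  ring

lemma nU_stChar (b : F) : nU (stChar F) b = 1 := by
  have h : mU (P (1 : MulChar F ℂ)) b = nU (Chars.oneChar SLG) b + nU (stChar F) b := by
    rw [P_one_eq, mU_add, nU_spec, nU_spec]
  by_cases hb : b = 0
  · subst hb
    rw [mU_P_zero, nU_oneChar_zero] at h
    have : 2 = 1 + nU (stChar F) 0 := by exact_mod_cast h
    omega
  · rw [mU_P _ hb, nU_oneChar hb] at h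
    have : 1 = 0 + nU (stChar F) b := by exact_mod_cast h
    omega

lemma eq_oneChar_or_stChar {χ : IrrCharacter SLG} (h : cI χ (1 : MulChar F ℂ) ≠ 0) :
    χ = Chars.oneChar SLG ∨ χ = stChar F := by
  rw [cI_pair P_one_eq χ] at h
  split_ifs at h with h1 h2 h2
  · exact Or.inl h1.symm
  · exact Or.inl h1.symm
  · exact Or.inr h2.symm
  · simp at h

/-! ### Sums over the characters with trivial constituent on `U` -/

lemma card_mulChar : Fintype.card (MulChar F ℂ) = Fintype.card F - 1 := by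
  rw [← Nat.card_eq_fintype_card, MulChar.card_eq_card_units_of_hasEnoughRootsOfUnity F ℂ,
    Nat.card_eq_fintype_card, Fintype.card_units]

lemma card_mulChar_sq_eq_one :
    (Finset.univ.filter fun α : MulChar F ℂ => α ^ 2 = 1).card = numSqrtOne F := by
  obtain ⟨e⟩ := MulChar.mulEquiv_units F ℂ
  refine Finset.card_equiv e.toEquiv fun α => ?_
  simp [sq, ← map_mul]

lemma sum_noncusp (f : IrrCharacter SLG → ℂ) :
    ∑ χ ∈ Finset.univ.filter (fun χ : IrrCharacter SLG => nU χ 0 ≠ 0), f χ =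
      ∑ α : MulChar F ℂ, ∑ χ : IrrCharacter SLG, (cI χ α : ℂ) * (f χ / nU χ 0) := by
  rw [Finset.sum_comm, Finset.sum_filter]
  refine Finset.sum_congr rfl fun χ _ => ?_
  rw [← Finset.sum_mul, ← Nat.cast_sum, sum_cI]
  split_ifs with h
  · rw [mul_div_cancel₀ _ (Nat.cast_ne_zero.2 h)]
  · rw [not_not.1 h]; simp

lemma sum_cI_mul_regular {α : MulChar F ℂ} (hα : α ^ 2 ≠ 1) (f : IrrCharacter SLG → ℂ) :
    ∑ χ : IrrCharacter SLG, (cI χ α : ℂ) * f χ = f ⟨P α, (P_isIrr_iff α).2 hα⟩ := by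
  rw [Finset.sum_eq_single (⟨P α, (P_isIrr_iff α).2 hα⟩ : IrrCharacter SLG)]
  · rw [← cI_spec, Chars.classInner_self (⟨P α, (P_isIrr_iff α).2 hα⟩ : IrrCharacter SLG), one_mul]
  · intro χ _ hne
    by_cases h : cI χ α = 0
    · simp [h]
    · exact absurd (Subtype.ext (eq_P_of_cI hα h)) hne
  · simp

lemma sum_cI_mul_pair {α : MulChar F ℂ} {χ φ : IrrCharacter SLG}
    (he : P α = (χ : SLG → ℂ) + (φ : SLG → ℂ)) (f : IrrCharacter SLG → ℂ) :
    ∑ ψ : IrrCharacter SLG, (cI ψ α : ℂ) * f ψ = f χ + f φ := by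
  simp [cI_pair he, add_mul, Finset.sum_add_distrib]

lemma exists_pair {α : MulChar F ℂ} (hα : α ^ 2 = 1) :
    ∃ χ φ : IrrCharacter SLG, φ ≠ χ ∧ P α = (χ : SLG → ℂ) + (φ : SLG → ℂ) := by
  by_contra h
  have h0 : ∀ χ : IrrCharacter SLG, cI χ α = 0 := fun χ => by
    by_contra hc
    exact h ⟨χ, exists_partner hα hc⟩
  have h1 := Chars.eq_zero_of_classInner_eq_zero (P_isClassFunction α) fun χ => by
    rw [classInner_P_irr, h0, Nat.cast_zero]
  have h2 := P_one α
  rw [h1, Pi.zero_apply] at h2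
  exact Nat.cast_add_one_ne_zero (R := ℂ) (Fintype.card F) h2.symm

end CfsgLib.Sl2Chars
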