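import Cfsg.Agent.Sl2Chars.Odd

/-!
# Characters of `SL₂`: the diagonal automorphism

Conjugation by `diag (e, 1)` exchanges the two constituents of the quadratic principal series
character.
-/

set_option autoImplicit false
set_option linter.unusedSectionVars false

noncomputable section

namespace CfsgLib.Sl2Chars

open Cfsg CfsgLib.SL2
open scoped ComplexConjugate

variable {F : Type*} [Field F] [Fintype F] [DecidableEq F]

local notation "SLG" => Matrix.SpecialLinearGroup (Fin 2) F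

/-- Conjugation by `diag (e, 1)`. -/
def twist (e : Fˣ) : SLG →* SLG where
  toFun g := mk4 (g 0 0) ((e : F) * g 0 1) (((e⁻¹ : Fˣ) : F) * g 1 0) (g 1 1) (by
    have h := det_eq g
    have he : (e : F) * ((e⁻¹ : Fˣ) : F) = 1 := Units.mul_inv e
    linear_combination h - g 0 1 * g 1 0 * he)
  map_one' := by apply ext4 <;> simp
  map_mul' x y := by
    apply ext4 <;> simp [Matrix.mul_apply, Fin.sum_univ_two] <;> field_simp

lemma twist_twist_inv (e : Fˣ) (g : SLG) : twist e (twist e⁻¹ g) = g := by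
  apply ext4 <;> simp [twist]

lemma twist_u (e : Fˣ) (t : F) : twist e (u t : SLG) = u ((e : F) * t) := by
  apply ext4 <;> simp [twist]

lemma tr_twist (e : Fˣ) (g : SLG) : tr (twist e g) = tr g := by simp [tr, twist]

/-- The twisted character. -/
def twistChar (e : Fˣ) (χ : IrrCharacter SLG) : IrrCharacter SLG :=
  ⟨fun g => (χ : SLG → ℂ) (twist e g),
    Chars.isIrrCharacter_comp χ.2 (twist e) fun g => ⟨twist e⁻¹ g, twist_twist_inv e g⟩⟩

lemma twistChar_apply (e : Fˣ) (χ : IrrCharacter SLG) (g : SLG) :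
    (twistChar e χ : SLG → ℂ) g = (χ : SLG → ℂ) (twist e g) := rfl

lemma mU_twistChar (e : Fˣ) (χ : IrrCharacter SLG) (b : F) :
    mU (twistChar e χ : SLG → ℂ) b = mU (χ : SLG → ℂ) (b * ((e⁻¹ : Fˣ) : F)) := by
  simp only [mU, twistChar_apply, twist_u]
  congr 1
  refine Fintype.sum_equiv (Equiv.mulLeft₀ (e : F) e.ne_zero) _ _ fun t => ?_
  rw [Equiv.mulLeft₀_apply]
  congr 3
  rw [mul_assoc, ← mul_assoc ((e⁻¹ : Fˣ) : F), Units.inv_mul, one_mul]

lemma nU_twistChar (e : Fˣ) (χ : IrrCharacter SLG) (b : F) :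
    nU (twistChar e χ) b = nU χ (b * ((e⁻¹ : Fˣ) : F)) :=
  nU_eq (by rw [mU_twistChar, nU_spec])

/-- Twisting by a nonsquare swaps the two square classes. -/
lemma pat_twistChar {ν : F} (hν : ¬ IsSquare ν) (χ : IrrCharacter SLG) :
    pat ν (twistChar (Units.mk0 ν (ne_zero_of_not_isSquare hν)) χ) = (nU χ 0, nU χ ν, nU χ 1) := by
  have h0 := ne_zero_of_not_isSquare hν
  simp only [pat, nU_twistChar, zero_mul, Prod.mk.injEq, true_and, Units.val_inv_eq_inv_val,
    Units.val_mk0]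
  refine ⟨nU_eq ?_, by rw [mul_inv_cancel₀ h0]⟩
  rw [one_mul, mU_eq_of_isSquare (Chars.isClassFunction_coe χ) h0 (inv_ne_zero h0)
    (by rw [mul_inv_cancel₀ h0]; exact IsSquare.one), nU_spec]

lemma card_pat (h2 : (2 : F) ≠ 0) {ν : F} (hν : ¬ IsSquare ν) (p : ℕ × ℕ × ℕ) :
    ((Finset.univ.filter fun χ : IrrCharacter SLG => pat ν χ = p).card : ℂ) =
      ((Fintype.card F : ℂ) - 3) / 2 * (if (2, 1, 1) = p then 1 else 0) +
        ((if (1, 0, 0) = p then 1 else 0) + (if (1, 1, 1) = p then 1 else 0) +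
          ((if (1, 1, 0) = p then 1 else 0) + (if (1, 0, 1) = p then 1 else 0))) +
      (((Fintype.card F : ℂ) - 1) / 2 * (if (0, 1, 1) = p then 1 else 0) +
        ((if (0, 1, 0) = p then 1 else 0) + (if (0, 0, 1) = p then 1 else 0))) := by
  rw [← sum_pat h2 hν fun x => if x = p then (1 : ℂ) else 0, Finset.natCast_card_filter]

/-- The four halved patterns occur once each. -/
lemma eq_of_pat_eq (h2 : (2 : F) ≠ 0) {ν : F} (hν : ¬ IsSquare ν) {p : ℕ × ℕ × ℕ}
    (hp : p = (1, 1, 0) ∨ p = (1, 0, 1) ∨ p = (0, 1, 0) ∨ p = (0, 0, 1))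
    {χ φ : IrrCharacter SLG} (h : pat ν χ = p) (h' : pat ν φ = p) : χ = φ := by
  have hc : (Finset.univ.filter fun χ : IrrCharacter SLG => pat ν χ = p).card = 1 := by
    apply Nat.cast_injective (R := ℂ)
    rw [card_pat h2 hν]
    rcases hp with rfl | rfl | rfl | rfl <;> norm_num
  exact Finset.card_le_one.1 hc.le χ (by simp [h]) φ (by simp [h'])

/-- The constituents of the quadratic principal series character are twists of each other. -/
theorem twistChar_half (h2 : (2 : F) ≠ 0) {ν : F} (hν : ¬ IsSquare ν) {χ φ : IrrCharacter SLG}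
    {α : MulChar F ℂ} (hα : α ^ 2 = 1) (hα1 : α ≠ 1)
    (he : P α = (χ : SLG → ℂ) + (φ : SLG → ℂ)) :
    twistChar (Units.mk0 ν (ne_zero_of_not_isSquare hν)) χ = φ := by
  rcases pat_half h2 hν hα hα1 he with ⟨h, h'⟩ | ⟨h, h'⟩ <;>
    [refine eq_of_pat_eq h2 hν (Or.inr (Or.inl rfl)) ?_ h';
     refine eq_of_pat_eq h2 hν (Or.inl rfl) ?_ h'] <;>
    simp only [pat, Prod.mk.injEq] at h <;> rw [pat_twistChar hν, h.1, h.2.1, h.2.2]

/-- The constituents of the quadratic principal series character vanish on nonsplit elements. -/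
theorem apply_nonsplit_half (h2 : (2 : F) ≠ 0) {ν : F} (hν : ¬ IsSquare ν) {χ φ : IrrCharacter SLG}
    {α : MulChar F ℂ} (hα : α ^ 2 = 1) (hα1 : α ≠ 1)
    (he : P α = (χ : SLG → ℂ) + (φ : SLG → ℂ)) {g : SLG} (hg : ¬ IsSplitTrace (tr g)) :
    (χ : SLG → ℂ) g = 0 := by
  have h := congrFun he g
  rw [P_apply_nonsplit α hg, Pi.add_apply, ← twistChar_half h2 hν hα hα1 he, twistChar_apply,
    ← Chars.eq_of_isConj (Chars.isClassFunction_coe χ)
      (isConj_of_tr_eq (sq_ne_four_of_not_isSplitTrace hg) (tr_twist _ g).symm)] at h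
  linear_combination (norm := ring_nf) -(1 / 2 : ℂ) * h

end CfsgLib.Sl2Chars
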