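import Cfsg.Agent.Sl2Chars.Even
import Cfsg.Agent.Sl2Chars.Twist

/-!
# Characters of `SL₂`: identification by degree
-/

set_option autoImplicit false
set_option linter.unusedSectionVars false

noncomputable section

namespace CfsgLib.Sl2Chars

open Cfsg CfsgLib.SL2
open scoped ComplexConjugate

variable {F : Type*} [Field F] [Fintype F] [DecidableEq F]

local notation "SLG" => Matrix.SpecialLinearGroup (Fin 2) F

lemma two_ne_zero_or_charTwo : (2 : F) ≠ 0 ∨ CharP F 2 := by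
  by_cases h : (2 : F) = 0
  · exact Or.inr (CharTwo.of_one_ne_zero_of_two_eq_zero one_ne_zero h)
  · exact Or.inl h

/-- The eight patterns with their degrees, as natural numbers. -/
lemma pat_deg_cases (h2 : (2 : F) ≠ 0) {ν : F} (hν : ¬ IsSquare ν) (χ : IrrCharacter SLG) {n : ℕ}
    (hn : (χ : SLG → ℂ) 1 = n) :
    (pat ν χ = (2, 1, 1) ∧ n = Fintype.card F + 1) ∨ (pat ν χ = (1, 0, 0) ∧ n = 1) ∨
    (pat ν χ = (1, 1, 1) ∧ n = Fintype.card F) ∨
    ((pat ν χ = (1, 1, 0) ∨ pat ν χ = (1, 0, 1)) ∧ n = (Fintype.card F + 1) / 2) ∨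
    (pat ν χ = (0, 1, 1) ∧ n = Fintype.card F - 1) ∨
    ((pat ν χ = (0, 1, 0) ∨ pat ν χ = (0, 0, 1)) ∧ n = (Fintype.card F - 1) / 2) := by
  rw [apply_one_pat h2 hν, Nat.cast_inj] at hn
  obtain ⟨k, hk⟩ := odd_card h2
  have hp := pat_cases h2 hν χ
  simp only [Finset.mem_insert, Finset.mem_singleton] at hp
  rcases hp with h | h | h | h | h | h | h | h <;> rw [h] at hn <;> subst hn <;>
    simp only [h, patDeg, Prod.mk.injEq] <;> simp <;> omega

/-- The four patterns in characteristic two with their degrees. -/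
lemma patTwo_deg_cases [CharP F 2] (χ : IrrCharacter SLG) {n : ℕ} (hn : (χ : SLG → ℂ) 1 = n) :
    (patTwo χ = (2, 1) ∧ n = Fintype.card F + 1) ∨ (patTwo χ = (1, 0) ∧ n = 1) ∨
    (patTwo χ = (1, 1) ∧ n = Fintype.card F) ∨ (patTwo χ = (0, 1) ∧ n = Fintype.card F - 1) := by
  rw [apply_one_patTwo, Nat.cast_inj] at hn
  have := Fintype.one_lt_card (α := F)
  have hp := patTwo_cases χ
  simp only [Finset.mem_insert, Finset.mem_singleton] at hp
  rcases hp with h | h | h | h <;> rw [h] at hn <;> subst hn <;>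
    simp only [h, patTwoDeg] <;> simp <;> omega

lemma eq_stChar_of_pat (h2 : (2 : F) ≠ 0) {ν : F} (hν : ¬ IsSquare ν) {χ : IrrCharacter SLG}
    (h : pat ν χ = (1, 1, 1)) : χ = stChar F := by
  have h0 : nU χ 0 ≠ 0 := by simp only [pat, Prod.mk.injEq] at h; omega
  rcases noncusp_cases h2 hν h0 with rfl | h' | ⟨_, -, -, h'⟩ | ⟨_, _, -, -, -, -, h'⟩
  · simp [pat_oneChar hν] at h
  · exact h'
  · simp [h'] at h
  · rcases h' with ⟨h'', -⟩ | ⟨h'', -⟩ <;> simp [h''] at h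

lemma eq_stChar_of_degree {χ : IrrCharacter SLG}
    (hdeg : (χ : SLG → ℂ) 1 = (Fintype.card F : ℂ)) : χ = stChar F := by
  have hq := Fintype.one_lt_card (α := F)
  rcases two_ne_zero_or_charTwo (F := F) with h2 | h2
  · obtain ⟨ν, hν⟩ := exists_nonsquare h2
    obtain ⟨k, hk⟩ := odd_card h2
    rcases pat_deg_cases h2 hν χ hdeg with ⟨-, e⟩ | ⟨-, e⟩ | ⟨h, -⟩ | ⟨-, e⟩ | ⟨-, e⟩ | ⟨-, e⟩
    all_goals first | omega | exact eq_stChar_of_pat h2 hν h
  · rcases patTwo_deg_cases χ hdeg with ⟨-, e⟩ | ⟨-, e⟩ | ⟨h, -⟩ | ⟨-, e⟩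
    all_goals try omega
    have h0 : nU χ 0 ≠ 0 := by simp only [patTwo, Prod.mk.injEq] at h; omega
    rcases noncusp_cases_even h0 with rfl | h' | ⟨_, -, -, h'⟩
    · simp [patTwo, nU_oneChar_zero, nU_oneChar one_ne_zero] at h
    · exact h'
    · simp [h'] at h

/-- An element of `SL₂` without eigenvector has nonsplit trace. -/
lemma not_isSplitTrace_of_forall {g : SLG}
    (h : ∀ (c : F) (v : Fin 2 → F), v ≠ 0 →
      (g : Matrix (Fin 2) (Fin 2) F).mulVec v ≠ c • v) : ¬ IsSplitTrace (tr g) := by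
  rintro ⟨a, ha⟩
  have hd : ((g : Matrix (Fin 2) (Fin 2) F) - (a : F) • (1 : Matrix (Fin 2) (Fin 2) F)).det = 0 := by
    have hg := det_eq g
    have he : (a : F) * ((a⁻¹ : Fˣ) : F) = 1 := Units.mul_inv a
    rw [Matrix.det_fin_two]
    simp only [tr] at ha
    simp
    linear_combination hg + (a : F) * ha - he
  obtain ⟨v, hv, hv'⟩ := Matrix.exists_mulVec_eq_zero_iff.2 hd
  rw [Matrix.sub_mulVec, Matrix.smul_mulVec, Matrix.one_mulVec, sub_eq_zero] at hv'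
  exact h a v hv hv'

/-- A diagonal element with `a² ≠ 1`. -/
lemma exists_d_of_diag {g : SLG} (h01 : (g : Matrix (Fin 2) (Fin 2) F) 0 1 = 0)
    (h10 : (g : Matrix (Fin 2) (Fin 2) F) 1 0 = 0)
    (h00 : (g : Matrix (Fin 2) (Fin 2) F) 0 0 ^ 2 ≠ 1) : ∃ a : Fˣ, a * a ≠ 1 ∧ g = d a := by
  obtain ⟨a, rfl⟩ := mem_T.2 ⟨h01, h10⟩
  refine ⟨a, fun h => h00 ?_, rfl⟩
  have h' : (a : F) * a = 1 := congrArg Units.val h
  simp [sq, h']

end CfsgLib.Sl2Chars
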