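import Cfsg.Agent.Sl2Chars.Classify
import Cfsg.Agent.Sl2Classes.Count

/-!
# Characters of `SL₂` in characteristic two

The pattern of `χ` is `(nU χ 0, nU χ 1)`; it is one of `(2,1)`, `(1,0)`, `(1,1)`, `(0,1)`.
-/

set_option autoImplicit false
set_option linter.unusedSectionVars false

noncomputable section

namespace CfsgLib.Sl2Chars

open Cfsg CfsgLib.SL2
open scoped ComplexConjugate

variable {F : Type*} [Field F] [Fintype F] [DecidableEq F] [CharP F 2]

local notation "SLG" => Matrix.SpecialLinearGroup (Fin 2) F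

lemma mU_eq_one {f : SLG → ℂ} (hf : IsClassFunction SLG f) {b : F} (hb : b ≠ 0) :
    mU f b = mU f 1 :=
  mU_eq_of_isSquare hf one_ne_zero hb (by
    rw [one_mul]; exact FiniteField.isSquare_of_char_two (ringChar.eq F 2) b)

lemma apply_u_even {f : SLG → ℂ} (hf : IsClassFunction SLG f) (s : F) :
    f (u s) = mU f 1 * (if s = 0 then (Fintype.card F : ℂ) else 0) + (mU f 0 - mU f 1) := by
  have h : ∀ b : F, mU f b * psiC F (b * s) = mU f 1 * psiC F (s * b) +
      if b = 0 then mU f 0 - mU f 1 else 0 := by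
    intro b
    split_ifs with hb
    · subst hb; simp
    · rw [mU_eq_one hf hb, mul_comm b s, add_zero]
  rw [apply_u f, Finset.sum_congr rfl (fun b _ => h b)]
  simp [Finset.sum_add_distrib, ← Finset.mul_sum, sum_psiC]

/-- The pattern in characteristic two. -/
def patTwo (χ : IrrCharacter SLG) : ℕ × ℕ := (nU χ 0, nU χ 1)

/-- The degree belonging to a pattern. -/
def patTwoDeg (q : ℕ) (p : ℕ × ℕ) : ℕ := p.1 + (q - 1) * p.2

lemma apply_one_patTwo (χ : IrrCharacter SLG) :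
    (χ : SLG → ℂ) 1 = patTwoDeg (Fintype.card F) (patTwo χ) := by
  have h := apply_u_even (Chars.isClassFunction_coe χ) 0
  rw [u_zero, if_pos rfl, nU_spec, nU_spec] at h
  rw [h, patTwo, patTwoDeg]
  push_cast [Nat.cast_sub (Fintype.card_pos (α := F))]
  ring

lemma apply_u_patTwo (χ : IrrCharacter SLG) {s : F} (hs : s ≠ 0) {a b : ℕ}
    (h : patTwo χ = (a, b)) : (χ : SLG → ℂ) (u s) = (a : ℂ) - b := by
  simp only [patTwo, Prod.mk.injEq] at h
  rw [apply_u_even (Chars.isClassFunction_coe χ), if_neg hs, nU_spec, nU_spec, h.1, h.2]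
  ring

lemma filter_sq_eq_one :
    Finset.univ.filter (fun α : MulChar F ℂ => α ^ 2 = 1) = {1} := by
  obtain ⟨x, hx⟩ := Finset.card_eq_one.1
    ((card_mulChar_sq_eq_one (F := F)).trans numSqrtOne_even)
  have h1 : (1 : MulChar F ℂ) ∈ ({x} : Finset (MulChar F ℂ)) := by rw [← hx]; simp
  rw [hx, Finset.mem_singleton.1 h1]

lemma eq_one_of_sq_eq_one {α : MulChar F ℂ} (hα : α ^ 2 = 1) : α = 1 := by
  have h : α ∈ Finset.univ.filter (fun α : MulChar F ℂ => α ^ 2 = 1) := by simp [hα]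
  rwa [filter_sq_eq_one, Finset.mem_singleton] at h

theorem noncusp_cases_even {χ : IrrCharacter SLG} (h : nU χ 0 ≠ 0) :
    χ = Chars.oneChar SLG ∨ χ = stChar F ∨
      ∃ α : MulChar F ℂ, α ^ 2 ≠ 1 ∧ (χ : SLG → ℂ) = P α ∧ patTwo χ = (2, 1) := by
  obtain ⟨α, hc⟩ := exists_cI_ne_zero h
  by_cases hα : α ^ 2 = 1
  · rw [eq_one_of_sq_eq_one hα] at hc
    rcases eq_oneChar_or_stChar hc with h' | h'
    · exact Or.inl h'
    · exact Or.inr (Or.inl h')
  · obtain ⟨h0, hb⟩ := nU_of_sq_ne_one hα hc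
    exact Or.inr (Or.inr ⟨α, hα, eq_P_of_cI hα hc, by simp [patTwo, h0, hb 1 one_ne_zero]⟩)

theorem sum_patTwo_noncusp (f : ℕ × ℕ → ℂ) :
    ∑ χ ∈ Finset.univ.filter (fun χ : IrrCharacter SLG => nU χ 0 ≠ 0), f (patTwo χ) =
      ((Fintype.card F : ℂ) - 2) / 2 * f (2, 1) + (f (1, 0) + f (1, 1)) := by
  rw [sum_noncusp, ← Finset.sum_filter_add_sum_filter_not _ (fun α : MulChar F ℂ => α ^ 2 = 1)]
  have hreg : ∀ α ∈ Finset.univ.filter (fun α : MulChar F ℂ => ¬ α ^ 2 = 1),
      ∑ ψ : IrrCharacter SLG, (cI ψ α : ℂ) * (f (patTwo ψ) / nU ψ 0) = f (2, 1) / 2 := by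
    intro α hα
    have hα' := (Finset.mem_filter.1 hα).2
    rw [sum_cI_mul_regular hα']
    have hc : cI (⟨P α, (P_isIrr_iff α).2 hα'⟩ : IrrCharacter SLG) α ≠ 0 := by
      intro h0
      have := cI_spec (⟨P α, (P_isIrr_iff α).2 hα'⟩ : IrrCharacter SLG) α
      rw [Chars.classInner_self ⟨P α, _⟩, h0] at this
      simp at this
    obtain ⟨h0, hb⟩ := nU_of_sq_ne_one hα' hc
    simp [patTwo, h0, hb 1 one_ne_zero]
  rw [Finset.sum_congr rfl hreg, Finset.sum_const, filter_sq_eq_one, Finset.sum_singleton,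
    sum_cI_mul_pair P_one_eq, patTwo, patTwo, nU_oneChar_zero, nU_oneChar one_ne_zero, nU_stChar,
    nU_stChar]
  have hcard := Finset.card_filter_add_card_filter_not (s := (Finset.univ : Finset (MulChar F ℂ)))
    (fun α : MulChar F ℂ => α ^ 2 = 1)
  rw [filter_sq_eq_one, Finset.card_singleton, Finset.card_univ, card_mulChar] at hcard
  have hcard' : ((Finset.univ.filter fun α : MulChar F ℂ => ¬ α ^ 2 = 1).card : ℂ) =
      (Fintype.card F : ℂ) - 2 := by
    have := Fintype.one_lt_card (α := F)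
    rw [eq_sub_iff_add_eq, show (2 : ℂ) = ((2 : ℕ) : ℂ) by norm_num, ← Nat.cast_add]
    congr 1
    omega
  rw [nsmul_eq_mul, hcard']
  simp only [Nat.cast_one, div_one]
  ring

theorem cusp_patTwo :
    (∀ χ : IrrCharacter SLG, nU χ 0 = 0 → patTwo χ = (0, 1)) ∧
    ((Finset.univ.filter (fun χ : IrrCharacter SLG => nU χ 0 = 0)).card : ℂ) =
      (Fintype.card F : ℂ) / 2 := by
  classical
  set q := (Fintype.card F : ℂ) with hq
  have split : ∀ f : ℕ × ℕ → ℂ,
      ∑ χ ∈ Finset.univ.filter (fun χ : IrrCharacter SLG => nU χ 0 = 0), f (patTwo χ) =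
        ∑ χ : IrrCharacter SLG, f (patTwo χ) - ((q - 2) / 2 * f (2, 1) + (f (1, 0) + f (1, 1))) := by
    intro f
    rw [← sum_patTwo_noncusp f, eq_sub_iff_add_eq]
    exact Finset.sum_filter_add_sum_filter_not _ _ _
  have T1 := split fun p => (p.2 : ℂ) * p.2
  have N := split fun _ => 1
  simp only [patTwo] at T1
  have hcol : ∑ χ : IrrCharacter SLG, (nU χ 1 : ℂ) * nU χ 1 = q := by
    simp only [← nU_spec]
    rw [sum_mU_sq one_ne_zero, numSqrtOne_even, ← hq]
    push_cast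
    ring
  rw [hcol] at T1
  rw [Finset.sum_const, Finset.sum_const, nsmul_one, nsmul_one, Finset.card_univ,
    ← Nat.card_eq_fintype_card (α := IrrCharacter SLG), Chars.card_irrCharacter,
    Sl2Classes.card_conjClasses_even] at N
  have N' : ((Finset.univ.filter (fun χ : IrrCharacter SLG => nU χ 0 = 0)).card : ℂ) = q / 2 := by
    rw [N]; push_cast; ring
  refine ⟨fun χ hχ => ?_, N'⟩
  have hle : ∀ ψ ∈ Finset.univ.filter (fun χ : IrrCharacter SLG => nU χ 0 = 0),
      1 ≤ nU ψ 1 * nU ψ 1 := by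
    intro ψ hψ
    refine Nat.one_le_iff_ne_zero.2 fun h0 => Chars.map_one_ne_zero ψ ?_
    rw [apply_one_patTwo]
    simp [patTwoDeg, patTwo, (Finset.mem_filter.1 hψ).2, mul_self_eq_zero.1 h0]
  have heq : ∑ _ψ ∈ Finset.univ.filter (fun χ : IrrCharacter SLG => nU χ 0 = 0), 1 =
      ∑ ψ ∈ Finset.univ.filter (fun χ : IrrCharacter SLG => nU χ 0 = 0), nU ψ 1 * nU ψ 1 := by
    apply Nat.cast_injective (R := ℂ)
    push_cast
    rw [Finset.sum_const, nsmul_one, N', T1]
    push_cast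
    ring
  have h1 := (Finset.sum_eq_sum_iff_of_le hle).1 heq χ (Finset.mem_filter.2 ⟨Finset.mem_univ χ, hχ⟩)
  simp only [patTwo, hχ, Nat.eq_one_of_mul_eq_one_right h1.symm]

/-- Every irreducible character has one of four patterns. -/
theorem patTwo_cases (χ : IrrCharacter SLG) :
    patTwo χ ∈ ({(2, 1), (1, 0), (1, 1), (0, 1)} : Finset (ℕ × ℕ)) := by
  by_cases h : nU χ 0 = 0
  · rw [cusp_patTwo.1 χ h]; decide
  · rcases noncusp_cases_even h with rfl | rfl | ⟨_, -, -, h'⟩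
    · simp [patTwo, nU_oneChar_zero, nU_oneChar one_ne_zero]
    · simp [patTwo, nU_stChar]
    · rw [h']; decide

/-- Sums over all irreducible characters of a function of the pattern. -/
theorem sum_patTwo (f : ℕ × ℕ → ℂ) :
    ∑ χ : IrrCharacter SLG, f (patTwo χ) =
      ((Fintype.card F : ℂ) - 2) / 2 * f (2, 1) + (f (1, 0) + f (1, 1)) +
        (Fintype.card F : ℂ) / 2 * f (0, 1) := by
  rw [← sum_patTwo_noncusp f, ← Finset.sum_filter_add_sum_filter_not _
    (fun χ : IrrCharacter SLG => nU χ 0 ≠ 0)]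
  congr 1
  simp only [not_not]
  obtain ⟨hp, hN⟩ := cusp_patTwo (F := F)
  rw [Finset.sum_congr rfl (fun χ hχ => by rw [hp χ (Finset.mem_filter.1 hχ).2]), Finset.sum_const,
    nsmul_eq_mul, hN]

end CfsgLib.Sl2Chars
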