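import Cfsg.Agent.Sl2Chars.Classify
import Cfsg.Agent.Sl2Classes.Count

/-!
# Characters of `SL₂` in odd characteristic

With `ν` a fixed nonsquare, the pattern of `χ` is `(nU χ 0, nU χ 1, nU χ ν)`. It determines the
degree and the value at every `u s`; each of the eight possible patterns is counted.
-/

set_option autoImplicit false
set_option linter.unusedSectionVars false

noncomputable section

namespace CfsgLib.Sl2Chars

open Cfsg CfsgLib.SL2
open scoped ComplexConjugate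

variable {F : Type*} [Field F] [Fintype F] [DecidableEq F]

local notation "SLG" => Matrix.SpecialLinearGroup (Fin 2) F

/-- The complex quadratic character. -/
def chiQ (F : Type*) [Field F] [Fintype F] [DecidableEq F] : MulChar F ℂ :=
  (quadraticChar F).ringHomComp (Int.castRingHom ℂ)

/-- The quadratic Gauss sum. -/
def gaussQ (F : Type*) [Field F] [Fintype F] [DecidableEq F] : ℂ := gaussSum (chiQ F) (psiC F)

lemma ringChar_ne_two (h2 : (2 : F) ≠ 0) : ringChar F ≠ 2 := fun h => by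
  haveI : CharP F 2 := ringChar.of_eq h
  exact h2 CharTwo.two_eq_zero

lemma ne_zero_of_not_isSquare {ν : F} (hν : ¬ IsSquare ν) : ν ≠ 0 :=
  fun h => hν (h ▸ IsSquare.zero)

lemma exists_nonsquare (h2 : (2 : F) ≠ 0) : ∃ ν : F, ¬ IsSquare ν :=
  FiniteField.exists_nonsquare (ringChar_ne_two h2)

lemma chiQ_of_isSquare {b : F} (hb : b ≠ 0) (h : IsSquare b) : chiQ F b = 1 := by
  simp [chiQ, (quadraticChar_one_iff_isSquare hb).2 h]

lemma chiQ_of_not {b : F} (h : ¬ IsSquare b) : chiQ F b = -1 := by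
  simp [chiQ, quadraticChar_neg_one_iff_not_isSquare.2 h]

lemma chiQ_isQuadratic : (chiQ F).IsQuadratic := (quadraticChar_isQuadratic F).comp _

lemma chiQ_ne_one (h2 : (2 : F) ≠ 0) : chiQ F ≠ 1 :=
  (MulChar.ringHomComp_ne_one_iff (RingHom.injective_int _)).2
    (quadraticChar_ne_one (ringChar_ne_two h2))

lemma odd_card (h2 : (2 : F) ≠ 0) : Odd (Fintype.card F) := two_ne_zero_iff_odd.1 h2

theorem gaussQ_sq (h2 : (2 : F) ≠ 0) :
    gaussQ F ^ 2 = (-1 : ℂ) ^ ((Fintype.card F - 1) / 2) * Fintype.card F := by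
  have hF := ringChar_ne_two h2
  rw [gaussQ, gaussSum_sq (chiQ_ne_one h2) chiQ_isQuadratic psiC_prim]
  congr 1
  obtain ⟨k, hk⟩ := odd_card h2
  rw [show (Fintype.card F - 1) / 2 = k by omega, chiQ, MulChar.ringHomComp_apply,
    quadraticChar_eq_pow_of_char_ne_two hF (neg_ne_zero.2 one_ne_zero),
    show Fintype.card F / 2 = k by omega]
  rcases Nat.even_or_odd k with hk' | hk'
  · rw [hk'.neg_one_pow, hk'.neg_one_pow, if_pos rfl]; simp
  · rw [hk'.neg_one_pow, hk'.neg_one_pow, if_neg]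
    · simp
    · exact Ring.neg_one_ne_one_of_char_ne_two hF

/-! ### Values on `U` -/

lemma mU_class {f : SLG → ℂ} (hf : IsClassFunction SLG f) {ν : F} (hν : ¬ IsSquare ν) {b : F}
    (hb : b ≠ 0) :
    mU f b = (mU f 1 + mU f ν) / 2 + (mU f 1 - mU f ν) / 2 * chiQ F b := by
  by_cases h : IsSquare b
  · rw [chiQ_of_isSquare hb h, mU_eq_of_isSquare hf one_ne_zero hb (by rwa [one_mul])]
    ring
  · rw [chiQ_of_not h, mU_eq_of_isSquare hf (ne_zero_of_not_isSquare hν) hb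
      (Sl2Classes.isSquare_mul_of_not hν h)]
    ring

lemma sum_chiQ_psiC {s : F} (hs : s ≠ 0) :
    ∑ b : F, chiQ F b * psiC F (b * s) = chiQ F s * gaussQ F := by
  have h := gaussSum_mulShift_eq (chiQ F) (psiC F) (Units.mk0 s hs)
  rw [chiQ_isQuadratic.inv] at h
  rw [gaussQ, ← Units.val_mk0 hs, ← h]
  simp [gaussSum, mul_comm s]

lemma apply_u_aux {f : SLG → ℂ} (hf : IsClassFunction SLG f) {ν : F} (hν : ¬ IsSquare ν) (s : F) :
    f (u s) = (mU f 1 + mU f ν) / 2 * ∑ b : F, psiC F (b * s) +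
      (mU f 1 - mU f ν) / 2 * ∑ b : F, chiQ F b * psiC F (b * s) +
      (mU f 0 - (mU f 1 + mU f ν) / 2) := by
  have h : ∀ b : F, mU f b * psiC F (b * s) = (mU f 1 + mU f ν) / 2 * psiC F (b * s) +
      (mU f 1 - mU f ν) / 2 * (chiQ F b * psiC F (b * s)) +
      if b = 0 then mU f 0 - (mU f 1 + mU f ν) / 2 else 0 := by
    intro b
    split_ifs with hb
    · subst hb; simp [MulChar.map_zero]
    · rw [mU_class hf hν hb]; ring
  rw [apply_u f, Finset.sum_congr rfl (fun b _ => h b)]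
  simp [Finset.sum_add_distrib, Finset.mul_sum]

lemma apply_u_ne_zero {f : SLG → ℂ} (hf : IsClassFunction SLG f) {ν : F} (hν : ¬ IsSquare ν)
    {s : F} (hs : s ≠ 0) :
    f (u s) = mU f 0 - (mU f 1 + mU f ν) / 2 +
      (mU f 1 - mU f ν) / 2 * (chiQ F s * gaussQ F) := by
  rw [apply_u_aux hf hν, sum_chiQ_psiC hs]
  simp only [mul_comm _ s, sum_psiC, if_neg hs]
  ring

lemma apply_one_odd {f : SLG → ℂ} (hf : IsClassFunction SLG f) (h2 : (2 : F) ≠ 0) {ν : F}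
    (hν : ¬ IsSquare ν) :
    f 1 = mU f 0 + (((Fintype.card F - 1) / 2 : ℕ) : ℂ) * (mU f 1 + mU f ν) := by
  have h := apply_u_aux hf hν 0
  simp only [u_zero, mul_zero, AddChar.map_zero_eq_one, mul_one, Finset.sum_const,
    Finset.card_univ, nsmul_one, MulChar.sum_eq_zero_of_ne_one (chiQ_ne_one h2)] at h
  obtain ⟨k, hk⟩ := odd_card h2
  rw [h, show (Fintype.card F - 1) / 2 = k by omega, hk]
  push_cast
  ring

/-! ### Patterns -/

/-- The multiplicities of the three classes of characters of `U`. -/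
def pat (ν : F) (χ : IrrCharacter SLG) : ℕ × ℕ × ℕ := (nU χ 0, nU χ 1, nU χ ν)

/-- The degree belonging to a pattern. -/
def patDeg (q : ℕ) (p : ℕ × ℕ × ℕ) : ℕ := p.1 + (q - 1) / 2 * (p.2.1 + p.2.2)

lemma apply_one_pat (h2 : (2 : F) ≠ 0) {ν : F} (hν : ¬ IsSquare ν) (χ : IrrCharacter SLG) :
    (χ : SLG → ℂ) 1 = patDeg (Fintype.card F) (pat ν χ) := by
  rw [apply_one_odd (Chars.isClassFunction_coe χ) h2 hν, nU_spec, nU_spec, nU_spec, patDeg, pat]
  push_cast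
  rfl

/-- The value at `u s` from the pattern. -/
lemma apply_u_pat {ν : F} (hν : ¬ IsSquare ν) (χ : IrrCharacter SLG) {s : F} (hs : s ≠ 0)
    {a b c : ℕ} (h : pat ν χ = (a, b, c)) :
    (χ : SLG → ℂ) (u s) = a - ((b : ℂ) + c) / 2 + ((b : ℂ) - c) / 2 * (chiQ F s * gaussQ F) := by
  simp only [pat, Prod.mk.injEq] at h
  rw [apply_u_ne_zero (Chars.isClassFunction_coe χ) hν hs, nU_spec, nU_spec, nU_spec, h.1, h.2.1,
    h.2.2]

/-- There is exactly one character of order two of `Fˣ`. -/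
lemma exists_quad (h2 : (2 : F) ≠ 0) :
    ∃ α : MulChar F ℂ, α ^ 2 = 1 ∧ α ≠ 1 ∧
      Finset.univ.filter (fun β : MulChar F ℂ => β ^ 2 = 1) = {1, α} := by
  obtain ⟨x, y, hxy, he⟩ := Finset.card_eq_two.1
    ((card_mulChar_sq_eq_one (F := F)).trans (numSqrtOne_odd h2))
  have hx : x ^ 2 = 1 := by
    have hm := Finset.mem_insert_self x ({y} : Finset (MulChar F ℂ))
    rw [← he] at hm
    exact (Finset.mem_filter.1 hm).2
  have hy : y ^ 2 = 1 := by
    have hm : y ∈ ({x, y} : Finset (MulChar F ℂ)) := by simp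
    rw [← he] at hm
    exact (Finset.mem_filter.1 hm).2
  have h1 : (1 : MulChar F ℂ) ∈ ({x, y} : Finset (MulChar F ℂ)) := by rw [← he]; simp
  rcases Finset.mem_insert.1 h1 with rfl | h1'
  · exact ⟨y, hy, Ne.symm hxy, he⟩
  · rw [Finset.mem_singleton] at h1'
    subst h1'
    exact ⟨x, hx, hxy, by rw [he, Finset.pair_comm]⟩

lemma pat_oneChar {ν : F} (hν : ¬ IsSquare ν) : pat ν (Chars.oneChar SLG) = (1, 0, 0) := by
  simp [pat, nU_oneChar_zero, nU_oneChar one_ne_zero, nU_oneChar (ne_zero_of_not_isSquare hν)]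

lemma pat_stChar (ν : F) : pat ν (stChar F) = (1, 1, 1) := by simp [pat, nU_stChar]

lemma pat_regular {ν : F} (hν : ¬ IsSquare ν) {χ : IrrCharacter SLG} {α : MulChar F ℂ}
    (hα : α ^ 2 ≠ 1) (h : cI χ α ≠ 0) : pat ν χ = (2, 1, 1) := by
  obtain ⟨h0, hb⟩ := nU_of_sq_ne_one hα h
  simp [pat, h0, hb 1 one_ne_zero, hb ν (ne_zero_of_not_isSquare hν)]

lemma pat_half_aux (h2 : (2 : F) ≠ 0) {ν : F} (hν : ¬ IsSquare ν) {χ : IrrCharacter SLG}
    {α : MulChar F ℂ} (hα : α ^ 2 = 1) (hα1 : α ≠ 1) (h : cI χ α ≠ 0)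
    (hb : nU χ 1 = 0) (hc : nU χ ν = 0) : False := by
  have hp : pat ν χ = (1, 0, 0) := by simp [pat, nU_zero_of_sq_eq_one hα h, hb, hc]
  have he : χ = Chars.oneChar SLG := by
    refine eq_oneChar ?_ fun t => ?_
    · rw [apply_one_pat h2 hν, hp]; simp [patDeg]
    · by_cases ht : t = 0
      · rw [ht, u_zero, apply_one_pat h2 hν, hp]; simp [patDeg]
      · rw [apply_u_pat hν χ ht hp]; simp
  rw [he, cI_oneChar, if_neg hα1] at h
  exact h rfl

/-- The two constituents of the quadratic principal series character. -/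
lemma pat_half (h2 : (2 : F) ≠ 0) {ν : F} (hν : ¬ IsSquare ν) {χ φ : IrrCharacter SLG}
    {α : MulChar F ℂ} (hα : α ^ 2 = 1) (hα1 : α ≠ 1)
    (he : P α = (χ : SLG → ℂ) + (φ : SLG → ℂ)) :
    (pat ν χ = (1, 1, 0) ∧ pat ν φ = (1, 0, 1)) ∨ (pat ν χ = (1, 0, 1) ∧ pat ν φ = (1, 1, 0)) := by
  have hχ : cI χ α ≠ 0 := by rw [cI_pair he, if_pos rfl]; omega
  have hφ : cI φ α ≠ 0 := by rw [cI_pair he, if_pos rfl]; omega
  have h1 := nU_partner he (b := 1) one_ne_zero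
  have h3 := nU_partner he (b := ν) (ne_zero_of_not_isSquare hν)
  have hn := nU_zero_of_sq_eq_one hα hχ
  have hn' := nU_zero_of_sq_eq_one hα hφ
  have hx := pat_half_aux h2 hν hα hα1 hχ
  have hy := pat_half_aux h2 hν hα hα1 hφ
  simp only [pat, Prod.mk.injEq, hn, hn', true_and]
  by_cases hb : nU χ 1 = 0
  · have : nU χ ν ≠ 0 := fun hc => hx hb hc
    exact Or.inr ⟨⟨hb, by omega⟩, by omega, by omega⟩
  · have hb' : nU φ 1 = 0 := by omega
    have : nU φ ν ≠ 0 := fun hc => hy hb' hc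
    exact Or.inl ⟨⟨by omega, by omega⟩, hb', by omega⟩

/-- The irreducible characters with trivial constituent on `U`. -/
theorem noncusp_cases (h2 : (2 : F) ≠ 0) {ν : F} (hν : ¬ IsSquare ν) {χ : IrrCharacter SLG}
    (h : nU χ 0 ≠ 0) :
    χ = Chars.oneChar SLG ∨ χ = stChar F ∨
      (∃ α : MulChar F ℂ, α ^ 2 ≠ 1 ∧ (χ : SLG → ℂ) = P α ∧ pat ν χ = (2, 1, 1)) ∨
      (∃ (α : MulChar F ℂ) (φ : IrrCharacter SLG), α ^ 2 = 1 ∧ α ≠ 1 ∧ φ ≠ χ ∧
        P α = (χ : SLG → ℂ) + (φ : SLG → ℂ) ∧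
        ((pat ν χ = (1, 1, 0) ∧ pat ν φ = (1, 0, 1)) ∨
          (pat ν χ = (1, 0, 1) ∧ pat ν φ = (1, 1, 0)))) := by
  obtain ⟨α, hc⟩ := exists_cI_ne_zero h
  by_cases hα : α ^ 2 = 1
  · by_cases hα1 : α = 1
    · subst hα1
      rcases eq_oneChar_or_stChar hc with h' | h'
      · exact Or.inl h'
      · exact Or.inr (Or.inl h')
    · obtain ⟨φ, hne, he⟩ := exists_partner hα hc
      exact Or.inr (Or.inr (Or.inr ⟨α, φ, hα, hα1, hne, he, pat_half h2 hν hα hα1 he⟩))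
  · exact Or.inr (Or.inr (Or.inl ⟨α, hα, eq_P_of_cI hα hc, pat_regular hν hα hc⟩))

theorem sum_pat_noncusp (h2 : (2 : F) ≠ 0) {ν : F} (hν : ¬ IsSquare ν) (f : ℕ × ℕ × ℕ → ℂ) :
    ∑ χ ∈ Finset.univ.filter (fun χ : IrrCharacter SLG => nU χ 0 ≠ 0), f (pat ν χ) =
      ((Fintype.card F : ℂ) - 3) / 2 * f (2, 1, 1) +
        (f (1, 0, 0) + f (1, 1, 1) + (f (1, 1, 0) + f (1, 0, 1))) := by
  rw [sum_noncusp, ← Finset.sum_filter_add_sum_filter_not _ (fun α : MulChar F ℂ => α ^ 2 = 1)]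
  obtain ⟨α₀, hα₀, hα₁, hS⟩ := exists_quad h2
  obtain ⟨χ, φ, -, he⟩ := exists_pair hα₀
  have hreg : ∀ α ∈ Finset.univ.filter (fun α : MulChar F ℂ => ¬ α ^ 2 = 1),
      ∑ ψ : IrrCharacter SLG, (cI ψ α : ℂ) * (f (pat ν ψ) / nU ψ 0) = f (2, 1, 1) / 2 := by
    intro α hα
    have hα' := (Finset.mem_filter.1 hα).2
    rw [sum_cI_mul_regular hα']
    have hc : cI (⟨P α, (P_isIrr_iff α).2 hα'⟩ : IrrCharacter SLG) α ≠ 0 := by
      intro h0
      have := cI_spec (⟨P α, (P_isIrr_iff α).2 hα'⟩ : IrrCharacter SLG) α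
      rw [Chars.classInner_self ⟨P α, _⟩, h0] at this
      simp at this
    rw [pat_regular hν hα' hc, (nU_of_sq_ne_one hα' hc).1]
    norm_num
  have hχ : cI χ α₀ ≠ 0 := by rw [cI_pair he, if_pos rfl]; omega
  have hφ : cI φ α₀ ≠ 0 := by rw [cI_pair he, if_pos rfl]; omega
  rw [Finset.sum_congr rfl hreg, Finset.sum_const, hS, Finset.sum_pair (Ne.symm hα₁),
    sum_cI_mul_pair P_one_eq, sum_cI_mul_pair he, nU_oneChar_zero, nU_stChar, pat_oneChar hν,
    pat_stChar, nU_zero_of_sq_eq_one hα₀ hχ, nU_zero_of_sq_eq_one hα₀ hφ]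
  have hcard := Finset.card_filter_add_card_filter_not (s := (Finset.univ : Finset (MulChar F ℂ)))
    (fun α : MulChar F ℂ => α ^ 2 = 1)
  rw [hS, Finset.card_pair (Ne.symm hα₁), Finset.card_univ, card_mulChar] at hcard
  have hcard' : ((Finset.univ.filter fun α : MulChar F ℂ => ¬ α ^ 2 = 1).card : ℂ) =
      (Fintype.card F : ℂ) - 3 := by
    rw [eq_sub_iff_add_eq, show (3 : ℂ) = ((3 : ℕ) : ℂ) by norm_num, ← Nat.cast_add]
    congr 1
    omega
  rw [nsmul_eq_mul, hcard']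
  simp only [Nat.cast_one, div_one]
  rcases pat_half h2 hν hα₀ hα₁ he with ⟨h, h'⟩ | ⟨h, h'⟩ <;> rw [h, h'] <;> ring

/-- The degree is positive, so a pattern is not zero. -/
lemma pat_ne_zero (h2 : (2 : F) ≠ 0) {ν : F} (hν : ¬ IsSquare ν) {χ : IrrCharacter SLG}
    (h : nU χ 0 = 0) : nU χ 1 + nU χ ν ≠ 0 := fun h0 =>
  Chars.map_one_ne_zero χ (by rw [apply_one_pat h2 hν]; simp [patDeg, pat, h, h0])

/-- The cuspidal patterns, with the two squared totals. -/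
theorem cusp_pat (h2 : (2 : F) ≠ 0) {ν : F} (hν : ¬ IsSquare ν) :
    (∀ χ : IrrCharacter SLG, nU χ 0 = 0 →
      pat ν χ = (0, 1, 1) ∨ pat ν χ = (0, 1, 0) ∨ pat ν χ = (0, 0, 1)) ∧
    (∑ χ ∈ Finset.univ.filter (fun χ : IrrCharacter SLG => nU χ 0 = 0),
      (nU χ 1 : ℂ) * nU χ 1 = ((Fintype.card F : ℂ) + 1) / 2) ∧
    (∑ χ ∈ Finset.univ.filter (fun χ : IrrCharacter SLG => nU χ 0 = 0),
      (nU χ ν : ℂ) * nU χ ν = ((Fintype.card F : ℂ) + 1) / 2) ∧
    (∑ χ ∈ Finset.univ.filter (fun χ : IrrCharacter SLG => nU χ 0 = 0),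
      (nU χ 1 : ℂ) * nU χ ν = ((Fintype.card F : ℂ) - 1) / 2) := by
  classical
  set q := (Fintype.card F : ℂ) with hq
  have split : ∀ f : ℕ × ℕ × ℕ → ℂ,
      ∑ χ ∈ Finset.univ.filter (fun χ : IrrCharacter SLG => nU χ 0 = 0), f (pat ν χ) =
        ∑ χ : IrrCharacter SLG, f (pat ν χ) - ((q - 3) / 2 * f (2, 1, 1) +
          (f (1, 0, 0) + f (1, 1, 1) + (f (1, 1, 0) + f (1, 0, 1)))) := by
    intro f
    rw [← sum_pat_noncusp h2 hν f, eq_sub_iff_add_eq]
    exact Finset.sum_filter_add_sum_filter_not _ _ _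
  have hcol : ∀ a : F, a ≠ 0 → ∑ χ : IrrCharacter SLG, (nU χ a : ℂ) * nU χ a = q + 1 := by
    intro a ha
    simp only [← nU_spec]
    rw [sum_mU_sq ha, numSqrtOne_odd h2, ← hq]
    push_cast
    ring
  have T1 := split fun p => (p.2.1 : ℂ) * p.2.1
  have Tν := split fun p => (p.2.2 : ℂ) * p.2.2
  have N := split fun _ => 1
  have D := split fun p => (patDeg (Fintype.card F) p : ℂ) * patDeg (Fintype.card F) p
  simp only [pat] at T1 Tν
  rw [hcol 1 one_ne_zero] at T1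
  rw [hcol ν (ne_zero_of_not_isSquare hν)] at Tν
  have T1' : ∑ χ ∈ Finset.univ.filter (fun χ : IrrCharacter SLG => nU χ 0 = 0),
      (nU χ 1 : ℂ) * nU χ 1 = (q + 1) / 2 := by
    rw [T1]; push_cast; ring
  have Tν' : ∑ χ ∈ Finset.univ.filter (fun χ : IrrCharacter SLG => nU χ 0 = 0),
      (nU χ ν : ℂ) * nU χ ν = (q + 1) / 2 := by
    rw [Tν]; push_cast; ring
  have N' : ((Finset.univ.filter (fun χ : IrrCharacter SLG => nU χ 0 = 0)).card : ℂ) =
      (q + 3) / 2 := by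
    rw [Finset.sum_const, Finset.sum_const, nsmul_one, nsmul_one, Finset.card_univ,
      ← Nat.card_eq_fintype_card (α := IrrCharacter SLG), Chars.card_irrCharacter,
      Sl2Classes.card_conjClasses_odd (odd_card h2)] at N
    rw [N]
    push_cast
    ring
  obtain ⟨k, hk⟩ := odd_card h2
  have hk0 : k ≠ 0 := by
    have := Fintype.one_lt_card (α := F)
    omega
  have hh : (Fintype.card F - 1) / 2 = k := by omega
  have hd : ∑ χ : IrrCharacter SLG, (patDeg (Fintype.card F) (pat ν χ) : ℂ) *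
      patDeg (Fintype.card F) (pat ν χ) = q * (q ^ 2 - 1) := by
    have h := Chars.sum_charDegree_sq (G := SLG)
    rw [card_SL] at h
    have h' := congrArg (fun n : ℕ => (n : ℂ)) h
    rw [Nat.cast_sum] at h'
    simp only [Nat.cast_pow, Nat.cast_mul, Chars.coe_charDegree, apply_one_pat h2 hν] at h'
    rw [Nat.cast_sub (Nat.one_le_pow _ _ Fintype.card_pos), Nat.cast_pow, Nat.cast_one] at h'
    simpa [sq] using h'
  rw [hd] at D
  simp only [patDeg, hh] at D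
  have hqk : q = 2 * k + 1 := by rw [hq, hk]; push_cast; ring
  have D0 : ∑ χ ∈ Finset.univ.filter (fun χ : IrrCharacter SLG => nU χ 0 = 0),
      ((nU χ 1 : ℂ) + nU χ ν) * ((nU χ 1 : ℂ) + nU χ ν) = 2 * q := by
    have hk0' : (k : ℂ) * k ≠ 0 := mul_ne_zero (Nat.cast_ne_zero.2 hk0) (Nat.cast_ne_zero.2 hk0)
    refine mul_left_cancel₀ hk0' ?_
    rw [Finset.mul_sum]
    refine Eq.trans ?_ (D.trans ?_)
    · refine Finset.sum_congr rfl fun χ hχ => ?_
      simp only [pat, (Finset.mem_filter.1 hχ).2]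
      push_cast
      ring
    · push_cast
      rw [hqk]
      ring
  have X : ∑ χ ∈ Finset.univ.filter (fun χ : IrrCharacter SLG => nU χ 0 = 0),
      (nU χ 1 : ℂ) * nU χ ν = (q - 1) / 2 := by
    simp only [add_mul, mul_add, Finset.sum_add_distrib] at D0
    rw [T1', Tν', Finset.sum_congr rfl (fun χ _ => mul_comm (nU χ ν : ℂ) (nU χ 1 : ℂ))] at D0
    linear_combination D0 / 2
  refine ⟨fun χ hχ => ?_, T1', Tν', X⟩
  have hle : ∀ ψ ∈ Finset.univ.filter (fun χ : IrrCharacter SLG => nU χ 0 = 0),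
      1 + nU ψ 1 * nU ψ ν ≤ nU ψ 1 * nU ψ 1 + nU ψ ν * nU ψ ν := by
    intro ψ hψ
    have := pat_ne_zero h2 hν (Finset.mem_filter.1 hψ).2
    nlinarith [sq_nonneg ((nU ψ 1 : ℤ) - nU ψ ν), Nat.pos_of_ne_zero this]
  have heq : ∑ ψ ∈ Finset.univ.filter (fun χ : IrrCharacter SLG => nU χ 0 = 0),
        (1 + nU ψ 1 * nU ψ ν) =
      ∑ ψ ∈ Finset.univ.filter (fun χ : IrrCharacter SLG => nU χ 0 = 0),
        (nU ψ 1 * nU ψ 1 + nU ψ ν * nU ψ ν) := by
    apply Nat.cast_injective (R := ℂ)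
    push_cast
    rw [Finset.sum_add_distrib, Finset.sum_add_distrib, X, T1', Tν', Finset.sum_const, nsmul_one,
      N']
    ring
  have h1 := (Finset.sum_eq_sum_iff_of_le hle).1 heq χ (Finset.mem_filter.2 ⟨Finset.mem_univ χ, hχ⟩)
  have hne := pat_ne_zero h2 hν hχ
  have hb : nU χ 1 ≤ 1 := by nlinarith [sq_nonneg (2 * (nU χ ν : ℤ) - nU χ 1)]
  have hc : nU χ ν ≤ 1 := by nlinarith [sq_nonneg (2 * (nU χ 1 : ℤ) - nU χ ν)]
  simp only [pat, hχ, Prod.mk.injEq, true_and]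
  omega

/-- Every irreducible character has one of eight patterns. -/
theorem pat_cases (h2 : (2 : F) ≠ 0) {ν : F} (hν : ¬ IsSquare ν) (χ : IrrCharacter SLG) :
    pat ν χ ∈ ({(2, 1, 1), (1, 0, 0), (1, 1, 1), (1, 1, 0), (1, 0, 1), (0, 1, 1), (0, 1, 0),
      (0, 0, 1)} : Finset (ℕ × ℕ × ℕ)) := by
  by_cases h : nU χ 0 = 0
  · rcases (cusp_pat h2 hν).1 χ h with h' | h' | h' <;> rw [h'] <;> decide
  · rcases noncusp_cases h2 hν h with rfl | rfl | ⟨_, -, -, h'⟩ | ⟨_, _, -, -, -, -, h'⟩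
    · rw [pat_oneChar hν]; decide
    · rw [pat_stChar]; decide
    · rw [h']; decide
    · rcases h' with ⟨h'', -⟩ | ⟨h'', -⟩ <;> rw [h''] <;> decide

/-- Sums over all irreducible characters of a function of the pattern. -/
theorem sum_pat (h2 : (2 : F) ≠ 0) {ν : F} (hν : ¬ IsSquare ν) (f : ℕ × ℕ × ℕ → ℂ) :
    ∑ χ : IrrCharacter SLG, f (pat ν χ) =
      ((Fintype.card F : ℂ) - 3) / 2 * f (2, 1, 1) +
        (f (1, 0, 0) + f (1, 1, 1) + (f (1, 1, 0) + f (1, 0, 1))) +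
      (((Fintype.card F : ℂ) - 1) / 2 * f (0, 1, 1) + (f (0, 1, 0) + f (0, 0, 1))) := by
  rw [← sum_pat_noncusp h2 hν f, ← Finset.sum_filter_add_sum_filter_not _
    (fun χ : IrrCharacter SLG => nU χ 0 ≠ 0)]
  congr 1
  simp only [not_not]
  obtain ⟨hp, T1, Tν, X⟩ := cusp_pat h2 hν
  have e : ∀ χ ∈ Finset.univ.filter (fun χ : IrrCharacter SLG => nU χ 0 = 0),
      f (pat ν χ) = f (0, 1, 1) * ((nU χ 1 : ℂ) * nU χ ν) +
        f (0, 1, 0) * ((nU χ 1 : ℂ) * nU χ 1 - (nU χ 1 : ℂ) * nU χ ν) +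
        f (0, 0, 1) * ((nU χ ν : ℂ) * nU χ ν - (nU χ 1 : ℂ) * nU χ ν) := by
    intro χ hχ
    rcases hp χ (Finset.mem_filter.1 hχ).2 with h | h | h <;> rw [h] <;>
      simp only [pat, Prod.mk.injEq] at h <;> simp [h.2.1, h.2.2]
  rw [Finset.sum_congr rfl e]
  simp only [Finset.sum_add_distrib, ← Finset.mul_sum, Finset.sum_sub_distrib, T1, Tν, X]
  ring

end CfsgLib.Sl2Chars
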