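import Cfsg.Agent.Sl2Chars.Degrees
import Cfsg.Agent.Chars.Exceptional.Inner

/-!
# Characters of `SL₂`: the nonsplit torus and the cuspidal characters

For a cyclic subgroup `C` of order `q + 1` and a linear character `θ` of `C`, the virtual character
`piC C θ = (St - 1) * P (lam θ) - Ind_C θ` is irreducible of degree `q - 1` when `θ² ≠ 1`; these are
all the cuspidal characters of that degree. Odd characteristic throughout.
-/

set_option autoImplicit false
set_option linter.unusedSectionVars false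

noncomputable section

namespace CfsgLib.Sl2Chars

open Cfsg CfsgLib.SL2
open scoped ComplexConjugate Classical

variable {F : Type*} [Field F] [Fintype F] [DecidableEq F]

local notation "SLG" => Matrix.SpecialLinearGroup (Fin 2) F

variable {C : Subgroup (Matrix.SpecialLinearGroup (Fin 2) F)}

section Struct

variable (h2 : (2 : F) ≠ 0) (hC : IsCyclic C) (hcard : Nat.card C = Fintype.card F + 1)

include hC in
lemma torus_comm (x y : C) : x * y = y * x := by
  obtain ⟨g, hg⟩ := hC.exists_generator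
  obtain ⟨i, rfl⟩ := hg x
  obtain ⟨j, rfl⟩ := hg y
  exact (Commute.zpow_zpow_self g i j).eq

include hC in
lemma torus_commutator : commutator C = ⊥ :=
  Chars.commutator_eq_bot_iff.2 fun χ => by
    haveI : IsMulCommutative C := ⟨⟨torus_comm hC⟩⟩
    exact Chars.map_one_eq_one_of_isMulCommutative χ

include h2 hcard in
lemma neg_one_mem_torus : (-1 : SLG) ∈ C := by
  haveI : Fact (Nat.Prime 2) := ⟨Nat.prime_two⟩
  obtain ⟨k, hk⟩ := odd_card h2
  obtain ⟨x, hx⟩ := exists_prime_orderOf_dvd_card' (G := C) 2 (by rw [hcard, hk]; omega)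
  rw [← Subgroup.orderOf_coe, orderOf_eq_two_iff h2] at hx
  exact hx ▸ x.2

include h2 hcard in
lemma center_le_torus : Subgroup.center SLG ≤ C := fun z hz => by
  rcases mem_center_iff'.1 hz with rfl | rfl
  · exact one_mem C
  · exact neg_one_mem_torus h2 hcard

include h2 hC hcard in
/-- Noncentral elements of the torus are nonsplit. -/
lemma not_isSplitTrace_of_mem {c : SLG} (hc : c ∈ C) (hz : c ∉ Subgroup.center SLG) :
    ¬ IsSplitTrace (tr c) := by
  obtain ⟨k, hk⟩ := odd_card h2
  have hdvd : orderOf c ∣ Fintype.card F + 1 := by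
    rw [← hcard, ← Subgroup.orderOf_mk c hc]
    exact orderOf_dvd_natCard _
  have ht : tr c ^ 2 ≠ 4 := by
    intro ht
    obtain ⟨p, hp⟩ := CharP.exists F
    haveI : Fact p.Prime := ⟨CharP.char_is_prime F p⟩
    have h2p : orderOf c ∣ 2 * p := orderOf_dvd_of_pow_eq_one (pow_two_mul_char_eq_one ht)
    have hco : Nat.Coprime (orderOf c) p := by
      refine Nat.Coprime.coprime_dvd_left hdvd ?_
      rw [Nat.coprime_comm, (Fact.out : p.Prime).coprime_iff_not_dvd]
      intro h
      obtain ⟨⟨n, hn0⟩, -, hn⟩ := FiniteField.card F p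
      exact (Fact.out : p.Prime).not_dvd_one
        ((Nat.dvd_add_right (hn ▸ dvd_pow_self p hn0.ne' : p ∣ Fintype.card F)).1 h)
    rcases (Nat.dvd_prime Nat.prime_two).1 (hco.dvd_of_dvd_mul_right h2p) with h1 | h1
    · exact hz (by rw [orderOf_eq_one_iff.1 h1]; exact one_mem _)
    · exact hz (by rw [(orderOf_eq_two_iff h2).1 h1]; exact neg_one_mem_center)
  intro hs
  have hle : C ≤ Subgroup.centralizer ({c} : Set SLG) := fun x hx =>
    Subgroup.mem_centralizer_singleton_iff.2
      (congrArg Subtype.val (torus_comm hC ⟨x, hx⟩ ⟨c, hc⟩))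
  have h := Subgroup.card_dvd_of_le hle
  rw [hcard, card_centralizer_split ht hs] at h
  have := Fintype.one_lt_card (α := F)
  have := Nat.le_of_dvd (by omega) h
  omega

include h2 hC hcard in
lemma centralizer_torus {c : SLG} (hc : c ∈ C) (hz : c ∉ Subgroup.center SLG) :
    Subgroup.centralizer ({c} : Set SLG) = C := by
  refine (Subgroup.eq_of_le_of_card_ge (fun x hx => Subgroup.mem_centralizer_singleton_iff.2
    (congrArg Subtype.val (torus_comm hC ⟨x, hx⟩ ⟨c, hc⟩))) ?_).symm
  rw [card_centralizer_nonsplit (not_isSplitTrace_of_mem h2 hC hcard hc hz), hcard]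

include h2 hC hcard in
/-- In the torus a noncentral element shares its trace only with its inverse. -/
lemma eq_or_eq_inv {c x : SLG} (hc : c ∈ C) (hz : c ∉ Subgroup.center SLG) (hx : x ∈ C)
    (ht : tr x = tr c) : x = c ∨ x = c⁻¹ := by
  obtain ⟨a, b, hab⟩ := (mem_centralizer_iff_exists hz).1
    ((centralizer_torus h2 hC hcard hc hz).symm ▸ hx : x ∈ Subgroup.centralizer ({c} : Set SLG))
  have hd := det_eq x
  have hdc := det_eq c
  simp [hab] at hd
  simp [tr, hab] at ht
  have h4 : tr c ^ 2 ≠ 4 :=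
    sq_ne_four_of_not_isSplitTrace (not_isSplitTrace_of_mem h2 hC hcard hc hz)
  have key : (1 - b ^ 2) * (tr c ^ 2 - 4) = 0 := by
    simp only [tr]
    linear_combination 4 * hd - 4 * b ^ 2 * hdc -
      (2 * a + (1 + b) * (c 0 0 + c 1 1)) * ht
  have hb : b * b = 1 := by
    linear_combination -(mul_eq_zero.1 key).resolve_right (sub_ne_zero.2 h4)
  rcases mul_self_eq_one_iff.1 hb with rfl | rfl
  · left
    have ha : a = 0 := mul_left_cancel₀ h2 (by linear_combination ht)
    apply Subtype.ext
    rw [hab, ha, zero_smul, zero_add, one_smul]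
  · right
    have ha : a = c 0 0 + c 1 1 := mul_left_cancel₀ h2 (by linear_combination ht)
    apply Subtype.ext
    rw [hab, inv_apply, ha]
    ext i j
    fin_cases i <;> fin_cases j <;> simp

include h2 hC hcard in
lemma ne_inv_of_mem {c : SLG} (hc : c ∈ C) (hz : c ∉ Subgroup.center SLG) : c ≠ c⁻¹ := fun h => by
  have hsq : c * c = 1 := by nth_rw 2 [h]; exact mul_inv_cancel c
  by_cases h1 : c = 1
  · exact hz (h1 ▸ one_mem _)
  · exact hz (eq_neg_one_of_mul_self h2 h1 hsq ▸ neg_one_mem_center)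

end Struct

/-! ### The induced character from the torus -/

/-- `Ind_C θ`. -/
def indC (θ : C →* ℂˣ) : SLG → ℂ := indFun C fun x => (θ x : ℂ)

lemma indC_isCharacter (θ : C →* ℂˣ) : IsCharacter SLG (indC θ) :=
  Chars.Induced.isCharacter_indFun_hom C ((Units.coeHom ℂ).comp θ)

lemma indC_eq_zero (θ : C →* ℂˣ) {g : SLG} (hg : ∀ x : SLG, x⁻¹ * g * x ∉ C) : indC θ g = 0 := by
  rw [indC, indFun, mul_eq_zero]
  exact Or.inr (Finset.sum_eq_zero fun x _ => Chars.Induced.extendByZero_notMem _ (hg x))

lemma theta_coe {θ : C →* ℂˣ} (x : C) : ((θ x⁻¹ : ℂˣ) : ℂ) = ((θ x)⁻¹ : ℂˣ) := by rw [map_inv]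

lemma conj_theta (θ : C →* ℂˣ) (x : C) : conj ((θ x : ℂˣ) : ℂ) = ((θ⁻¹ x : ℂˣ) : ℂ) := by
  have h := Chars.map_inv_eq_conj (Chars.isCharacter_coe (Chars.linChar θ)) x
  rw [Chars.linChar_apply, Chars.linChar_apply] at h
  rw [← h, MonoidHom.inv_apply, map_inv]

lemma sum_theta (θ : C →* ℂˣ) :
    ∑ x : C, ((θ x : ℂˣ) : ℂ) = if θ = 1 then (Nat.card C : ℂ) else 0 := by
  classical
  have h := sum_hom_units ((Units.coeHom ℂ).comp θ)
  simp only [MonoidHom.coe_comp, Function.comp_apply, Units.coeHom_apply] at h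
  rw [h, Nat.cast_ite, Nat.cast_zero, Nat.card_eq_fintype_card]
  congr 1
  rw [eq_iff_iff]
  exact ⟨fun h' => MonoidHom.ext fun x => Units.ext (by simpa using DFunLike.congr_fun h' x),
    fun h' => by subst h'; ext x; simp⟩

section Main

variable (h2 : (2 : F) ≠ 0) (hC : IsCyclic C) (hcard : Nat.card C = Fintype.card F + 1)

include h2 hcard in
/-- The value of `θ` at `-1`. -/
def negVal (θ : C →* ℂˣ) : ℂ := θ ⟨-1, neg_one_mem_torus h2 hcard⟩

lemma negVal_cases (θ : C →* ℂˣ) :
    negVal h2 hcard θ = 1 ∨ negVal h2 hcard θ = -1 := by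
  refine mul_self_eq_one_iff.1 ?_
  rw [negVal, ← Units.val_mul, ← map_mul]
  rw [show (⟨-1, neg_one_mem_torus h2 hcard⟩ : C) * ⟨-1, neg_one_mem_torus h2 hcard⟩ = 1 from
    Subtype.ext (by simp), map_one, Units.val_one]

lemma exists_lam (h2 : (2 : F) ≠ 0) {s : ℂ} (hs : s = 1 ∨ s = -1) :
    ∃ α : MulChar F ℂ, α (-1) = s := by
  have hne : (-1 : F) ≠ 1 := Ring.neg_one_ne_one_of_char_ne_two (ringChar_ne_two h2)
  rcases hs with rfl | rfl
  · exact ⟨1, MulChar.one_apply (IsUnit.neg isUnit_one)⟩
  · obtain ⟨α, hα⟩ := MulChar.exists_apply_ne_one_of_hasEnoughRootsOfUnity F ℂ hne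
    refine ⟨α, ((mul_self_eq_one_iff.1 ?_).resolve_left hα)⟩
    rw [← map_mul, neg_mul_neg, one_mul, MulChar.map_one]

/-- A multiplicative character of `F` agreeing with `θ` at `-1`. -/
def lamC (θ : C →* ℂˣ) : MulChar F ℂ := (exists_lam h2 (negVal_cases h2 hcard θ)).choose

lemma lamC_spec (θ : C →* ℂˣ) : lamC h2 hcard θ (-1) = negVal h2 hcard θ :=
  (exists_lam h2 (negVal_cases h2 hcard θ)).choose_spec

/-- The cuspidal virtual character attached to `θ`. -/
def piC (θ : C →* ℂˣ) : SLG → ℂ :=
  fun g => (stFun F g - 1) * P (lamC h2 hcard θ) g - indC θ g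

lemma piC_gen (θ : C →* ℂˣ) : IsGeneralizedCharacter SLG (piC h2 hcard θ) := by
  refine ⟨fun g => stFun F g * P (lamC h2 hcard θ) g,
    P (lamC h2 hcard θ) + indC θ, Chars.isCharacter_mul (Chars.isCharacter_coe (stChar F))
      (P_isCharacter _), Chars.isCharacter_add (P_isCharacter _) (indC_isCharacter θ), ?_⟩
  funext g
  simp only [piC, Pi.sub_apply, Pi.add_apply]
  ring

lemma piC_isClassFunction (θ : C →* ℂˣ) : IsClassFunction SLG (piC h2 hcard θ) := fun g x => by
  simp only [piC, stFun]
  rw [P_isClassFunction 1 g x, P_isClassFunction _ g x,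
    Chars.isClassFunction_of_isCharacter (indC_isCharacter θ) g x]

include h2 hC hcard in
lemma indC_center (θ : C →* ℂˣ) {z : C} (hz : (z : SLG) ∈ Subgroup.center SLG) :
    indC θ (z : SLG) = (Fintype.card F : ℂ) * ((Fintype.card F : ℂ) - 1) * θ z := by
  have e : ∀ x : SLG, x⁻¹ * (z : SLG) * x = z := fun x => by
    rw [mul_assoc, ← Subgroup.mem_center_iff.1 hz x, inv_mul_cancel_left]
  simp only [indC, indFun, e, Chars.Induced.extendByZero_coe, Finset.sum_const, Finset.card_univ,
    nsmul_eq_mul]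
  rw [← Nat.card_eq_fintype_card (α := SLG), hcard, card_SL]
  rw [Nat.cast_mul, Nat.cast_sub (Nat.one_le_pow _ _ Fintype.card_pos)]
  push_cast
  have : (Fintype.card F : ℂ) + 1 ≠ 0 := Nat.cast_add_one_ne_zero _
  field_simp
  ring

include h2 hC hcard in
lemma indC_noncentral (θ : C →* ℂˣ) {c : C} (hz : (c : SLG) ∉ Subgroup.center SLG) :
    indC θ (c : SLG) = (θ c : ℂ) + ((θ c)⁻¹ : ℂˣ) := by
  classical
  have hns := not_isSplitTrace_of_mem h2 hC hcard c.2 hz
  have e : ∀ x : SLG, extendByZero C (fun y => (θ y : ℂ)) (x⁻¹ * (c : SLG) * x) =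
      (if x⁻¹ * (c : SLG) * x = c then (θ c : ℂ) else 0) +
        (if x⁻¹ * (c : SLG) * x = (c : SLG)⁻¹ then (((θ c)⁻¹ : ℂˣ) : ℂ) else 0) := by
    intro x
    by_cases hx : x⁻¹ * (c : SLG) * x ∈ C
    · have ht : tr (x⁻¹ * (c : SLG) * x) = tr (c : SLG) := by simpa using tr_conj (c : SLG) x⁻¹
      rcases eq_or_eq_inv h2 hC hcard c.2 hz hx ht with h | h
      · rw [h, if_pos rfl, if_neg (ne_inv_of_mem h2 hC hcard c.2 hz), add_zero,
          Chars.Induced.extendByZero_coe]
      · rw [h, if_neg (Ne.symm (ne_inv_of_mem h2 hC hcard c.2 hz)), if_pos rfl, zero_add,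
          show (c : SLG)⁻¹ = ((c⁻¹ : C) : SLG) from rfl, Chars.Induced.extendByZero_coe, map_inv]
    · rw [Chars.Induced.extendByZero_notMem _ hx, if_neg (fun h => hx (by rw [h]; exact c.2)),
        if_neg (fun h => hx (by rw [h]; exact inv_mem c.2)), add_zero]
  have cnt : ∀ y : SLG, IsConj (c : SLG) y →
      ((Finset.univ.filter fun x : SLG => x⁻¹ * (c : SLG) * x = y).card : ℂ) = Nat.card C := by
    intro y hy
    have h1 := sum_irr_mul_conj_eq_card (c : SLG) y
    rw [Chars.sum_irr_mul_conj, if_pos hy, centralizer_torus h2 hC hcard c.2 hz] at h1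
    rw [h1, Nat.cast_inj]
    exact Finset.card_equiv (Equiv.inv SLG) (fun x => by simp)
  simp only [indC, indFun, e, Finset.sum_add_distrib, ← Finset.sum_filter, Finset.sum_const,
    nsmul_eq_mul, cnt _ (IsConj.refl _),
    cnt _ (isConj_of_tr_eq (sq_ne_four_of_not_isSplitTrace hns) (tr_inv _).symm)]
  rw [← mul_add, inv_mul_cancel_left₀ (Nat.cast_ne_zero.2 Nat.card_pos.ne')]

include hC in
lemma conj_mem_imp {θ : C →* ℂˣ} {g : SLG} (hg : g ∉ Subgroup.center SLG) (h2 : (2 : F) ≠ 0)
    (hcard : Nat.card C = Fintype.card F + 1) (hs : IsSplitTrace (tr g)) : indC θ g = 0 := by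
  refine indC_eq_zero θ fun x hx => not_isSplitTrace_of_mem h2 hC hcard hx (fun hc => hg ?_) ?_
  · have h := Subgroup.mem_center_iff.1 hc x
    rw [show x * (x⁻¹ * g * x) = g * x by group] at h
    rw [mul_right_cancel h]
    exact hc
  · rwa [show tr (x⁻¹ * g * x) = tr g by simpa using tr_conj g x⁻¹]

include h2 hC hcard in
lemma piC_one (θ : C →* ℂˣ) : piC h2 hcard θ 1 = (Fintype.card F : ℂ) - 1 := by
  have h := indC_center h2 hC hcard θ (z := 1) (one_mem _)
  rw [OneMemClass.coe_one, map_one, Units.val_one, mul_one] at h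
  simp only [piC, stFun, P_one, h]
  ring

include h2 hC hcard in
/-- On the torus, uniformly in central and noncentral elements. -/
lemma piC_torus (θ : C →* ℂˣ) (c : C) :
    piC h2 hcard θ (c : SLG) = -((θ c : ℂ) + ((θ c)⁻¹ : ℂˣ)) +
      if (c : SLG) ∈ Subgroup.center SLG then ((Fintype.card F : ℂ) + 1) * θ c else 0 := by
  by_cases hz : (c : SLG) ∈ Subgroup.center SLG
  · rw [if_pos hz]
    rcases mem_center_iff'.1 hz with h | h
    · obtain rfl : c = 1 := Subtype.ext h
      rw [OneMemClass.coe_one, piC_one h2 hC hcard, map_one, inv_one, Units.val_one]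
      ring
    · obtain rfl : c = ⟨-1, neg_one_mem_torus h2 hcard⟩ := Subtype.ext h
      have hi := indC_center h2 hC hcard θ (z := ⟨-1, neg_one_mem_torus h2 hcard⟩) hz
      have hinv : (θ ⟨-1, neg_one_mem_torus h2 hcard⟩)⁻¹ =
          θ ⟨-1, neg_one_mem_torus h2 hcard⟩ := by
        rw [← map_inv]
        congr 1
        exact Subtype.ext (inv_eq_of_mul_eq_one_right (by simp))
      have hP : ∀ α : MulChar F ℂ, P α (-1 : SLG) = ((Fintype.card F : ℂ) + 1) * α (-1) := by
        intro α
        have h' := P_apply_d_mul_u α (-1) 0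
        rw [u_zero, mul_one, d_neg_one] at h'
        simp at h'
        rw [h']
        ring
      simp only [piC, stFun, hi, hP, MulChar.one_apply (IsUnit.neg isUnit_one), lamC_spec, negVal,
        hinv]
      ring
  · rw [if_neg hz, add_zero]
    have hns := not_isSplitTrace_of_mem h2 hC hcard c.2 hz
    simp only [piC, P_apply_nonsplit _ hns, mul_zero, zero_sub, indC_noncentral h2 hC hcard θ hz]

include h2 hC hcard in
lemma piC_split (θ : C →* ℂˣ) {a : Fˣ} (ha : a * a ≠ 1) : piC h2 hcard θ (d a) = 0 := by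
  have h := P_apply_split (1 : MulChar F ℂ) ha 0
  rw [u_zero, mul_one, MulChar.one_apply_coe, MulChar.one_apply_coe] at h
  have hg : d a ∉ Subgroup.center SLG := fun hz => by
    rcases mem_center_iff'.1 hz with e | e
    · exact ha (by rw [d_injective (e.trans (map_one d).symm), one_mul])
    · exact ha (by rw [d_injective (e.trans d_neg_one.symm)]; simp)
  simp only [piC, stFun, h, conj_mem_imp hC (θ := θ) hg h2 hcard ⟨a, (tr_d a).symm⟩]
  ring

include h2 hC hcard in
/-- At `± u t`. -/
lemma piC_unip (θ : C →* ℂˣ) {a : Fˣ} (ha : a * a = 1) {t : F} (ht : t ≠ 0) :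
    piC h2 hcard θ (d a * u t) = -lamC h2 hcard θ a := by
  have hs : IsSplitTrace (tr (d a * u t : SLG)) := ⟨a, by simp [tr, Matrix.mul_apply]⟩
  have hg : d a * u t ∉ Subgroup.center SLG := by
    rw [not_mem_center_iff_entries]
    simp [Matrix.mul_apply, ht]
  simp only [piC, stFun, P_apply_unip _ ha ht, MulChar.one_apply_coe,
    conj_mem_imp hC (θ := θ) hg h2 hcard hs]
  ring

include h2 hC hcard in
lemma restAvg_piC (θ : C →* ℂˣ) (a : Fˣ) : restAvg (piC h2 hcard θ) a = 0 := by
  by_cases ha : a * a = 1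
  · have hd : piC h2 hcard θ (d a) = ((Fintype.card F : ℂ) - 1) * lamC h2 hcard θ a := by
      rcases mul_self_eq_one_iff.1 (show (a : F) * a = 1 from congrArg Units.val ha) with h | h
      · obtain rfl : a = 1 := Units.ext h
        rw [map_one, piC_one h2 hC hcard, Units.val_one, MulChar.map_one, mul_one]
      · obtain rfl : a = -1 := Units.ext h
        rw [d_neg_one]
        have e := piC_torus h2 hC hcard θ ⟨-1, neg_one_mem_torus h2 hcard⟩
        have hinv : (θ ⟨-1, neg_one_mem_torus h2 hcard⟩)⁻¹ =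
            θ ⟨-1, neg_one_mem_torus h2 hcard⟩ := by
          rw [← map_inv]
          congr 1
          exact Subtype.ext (inv_eq_of_mul_eq_one_right (by simp))
        rw [if_pos neg_one_mem_center, hinv] at e
        rw [e, Units.val_neg, Units.val_one, lamC_spec, negVal]
        ring
    simp only [restAvg, mul_eq_zero]
    right
    rw [← Finset.sum_erase_add _ _ (Finset.mem_univ (0 : F)), Finset.sum_congr rfl
      (fun t ht => piC_unip h2 hC hcard θ ha (Finset.ne_of_mem_erase ht)), u_zero, mul_one, hd]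
    simp [Finset.card_erase_of_mem, Nat.cast_sub (Fintype.card_pos (α := F))]
  · rw [restAvg_split (piC_isClassFunction h2 hcard θ) ha, piC_split h2 hC hcard θ ha]

include h2 hC hcard in
/-- Inner products of the `piC` with induced characters of the torus. -/
lemma classInner_piC_indC (θ θ' : C →* ℂˣ) :
    classInner (piC h2 hcard θ) (indC θ') =
      1 + negVal h2 hcard θ * negVal h2 hcard θ' -
        ((if θ = θ' then 1 else 0) + (if θ * θ' = 1 then 1 else 0)) := by
  classical
  rw [indC, Chars.Induced.classInner_indFun_right C _ (piC_isClassFunction h2 hcard θ), classInner]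
  have ha : ∑ c : C, (θ c : ℂ) * ((θ'⁻¹ c : ℂˣ) : ℂ) =
      if θ = θ' then (Nat.card C : ℂ) else 0 := by
    simp only [← Units.val_mul, ← MonoidHom.mul_apply, sum_theta]
    congr 1
    exact propext (mul_inv_eq_one (a := θ) (b := θ'))
  have hb : ∑ c : C, (((θ c)⁻¹ : ℂˣ) : ℂ) * ((θ'⁻¹ c : ℂˣ) : ℂ) =
      if θ * θ' = 1 then (Nat.card C : ℂ) else 0 := by
    rw [Finset.sum_congr rfl (fun c _ => show (((θ c)⁻¹ : ℂˣ) : ℂ) * ((θ'⁻¹ c : ℂˣ) : ℂ) =
      (((θ * θ')⁻¹ : C →* ℂˣ) c : ℂ) by
        simp [MonoidHom.inv_apply, mul_comm]), sum_theta]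
    congr 1
    exact propext (inv_eq_one (a := θ * θ'))
  have hfilt : (Finset.univ.filter fun c : C => (c : SLG) ∈ Subgroup.center SLG) =
      {1, ⟨-1, neg_one_mem_torus h2 hcard⟩} := by
    refine Finset.ext fun c => ?_
    rw [Finset.mem_filter, Finset.mem_insert, Finset.mem_singleton, mem_center_iff']
    constructor
    · rintro ⟨-, h | h⟩
      · exact Or.inl (Subtype.ext h)
      · exact Or.inr (Subtype.ext h)
    · rintro (rfl | rfl)
      · exact ⟨Finset.mem_univ _, Or.inl rfl⟩
      · exact ⟨Finset.mem_univ _, Or.inr rfl⟩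
  have hinv : ((θ'⁻¹ ⟨-1, neg_one_mem_torus h2 hcard⟩ : ℂˣ) : ℂ) = negVal h2 hcard θ' := by
    rw [MonoidHom.inv_apply, ← map_inv, negVal]
    congr 2
    exact Subtype.ext (inv_eq_of_mul_eq_one_right (by simp))
  have hne : (1 : C) ≠ ⟨-1, neg_one_mem_torus h2 hcard⟩ :=
    fun h => neg_one_ne_one h2 (congrArg Subtype.val h).symm
  simp only [piC_torus h2 hC hcard, conj_theta, add_mul, neg_mul, ite_mul, zero_mul,
    Finset.sum_add_distrib, Finset.sum_neg_distrib, ← Finset.sum_filter, hfilt,
    Finset.sum_pair hne, ha, hb]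
  simp only [map_one, Units.val_one, mul_one, hinv]
  rw [show ((θ ⟨-1, neg_one_mem_torus h2 hcard⟩ : ℂˣ) : ℂ) = negVal h2 hcard θ from rfl, hcard]
  have h1 : (Fintype.card F : ℂ) + 1 ≠ 0 := Nat.cast_add_one_ne_zero _
  push_cast
  split_ifs <;> field_simp <;> ring

include h2 hC hcard in
lemma classInner_piC_stP (θ θ' : C →* ℂˣ) :
    classInner (piC h2 hcard θ) (fun g => (stFun F g - 1) * P (lamC h2 hcard θ') g) =
      1 + negVal h2 hcard θ * negVal h2 hcard θ' := by
  have hst : ∀ g : SLG, conj (stFun F g) = stFun F g⁻¹ := fun g =>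
    (Chars.map_inv_eq_conj (Chars.isCharacter_coe (stChar F)) g).symm
  set f : SLG → ℂ := fun g => piC h2 hcard θ g * (stFun F g⁻¹ - 1) with hf
  have hfc : IsClassFunction SLG f := fun g x => by
    simp only [hf, piC_isClassFunction h2 hcard θ g x]
    rw [show (x * g * x⁻¹)⁻¹ = x * g⁻¹ * x⁻¹ by group]
    simp only [stFun, P_isClassFunction 1 g⁻¹ x]
  have e : classInner (piC h2 hcard θ) (fun g => (stFun F g - 1) * P (lamC h2 hcard θ') g) =
      classInner f (P (lamC h2 hcard θ')) := by
    simp only [classInner, hf, map_mul, map_sub, map_one, hst]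
    congr 1
    exact Finset.sum_congr rfl fun g _ => by ring
  have hr : ∀ a : Fˣ, restAvg f a =
      if a * a = 1 then ((Fintype.card F : ℂ) - 1) * lamC h2 hcard θ a else 0 := by
    intro a
    split_ifs with ha
    · have h0 : piC h2 hcard θ (d a) = ((Fintype.card F : ℂ) - 1) * lamC h2 hcard θ a := by
        have h := restAvg_piC h2 hC hcard θ a
        simp only [restAvg, mul_eq_zero, inv_eq_zero, card_cast_ne_zero, false_or] at h
        rw [← Finset.sum_erase_add _ _ (Finset.mem_univ (0 : F)), Finset.sum_congr rfl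
          (fun t ht => piC_unip h2 hC hcard θ ha (Finset.ne_of_mem_erase ht)), u_zero, mul_one,
          Finset.sum_const, Finset.card_erase_of_mem (Finset.mem_univ _), Finset.card_univ,
          nsmul_eq_mul, Nat.cast_sub (Fintype.card_pos (α := F)), Nat.cast_one] at h
        linear_combination h
      have hP0 : ∀ t : F, stFun F (d a * u t)⁻¹ =
          if t = 0 then (Fintype.card F : ℂ) else 0 := by
        intro t
        rw [mul_inv_rev, ← u_neg, ← map_inv, inv_eq_of_mul_eq_one_right ha]
        have hcomm : u (-t) * d a = d a * (u (-t) : SLG) := by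
          have h := d_conj_u a (-t)
          rw [show (a : F) ^ 2 = 1 by rw [sq]; exact congrArg Units.val ha, one_mul,
            mul_inv_eq_iff_eq_mul] at h
          exact h.symm
        rw [hcomm, stFun]
        split_ifs with h
        · subst h
          rw [neg_zero, u_zero, mul_one]
          have h' := P_apply_d_mul_u (1 : MulChar F ℂ) a 0
          rw [u_zero, mul_one] at h'
          have h0' : (a : F) - ((a⁻¹ : Fˣ) : F) = 0 := by
            rw [inv_eq_of_mul_eq_one_right ha, sub_self]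
          rw [h', h0']
          simp [MulChar.one_apply_coe, MulChar.one_apply (isUnit_iff_ne_zero.2 (inv_ne_zero a.ne_zero))]
        · rw [P_apply_unip _ ha (neg_ne_zero.2 h), MulChar.one_apply_coe, sub_self]
      simp only [restAvg, hf, hP0]
      rw [← Finset.sum_erase_add _ _ (Finset.mem_univ (0 : F)), if_pos rfl, Finset.sum_congr rfl
        (fun t ht => by rw [if_neg (Finset.ne_of_mem_erase ht),
          piC_unip h2 hC hcard θ ha (Finset.ne_of_mem_erase ht)]), u_zero, mul_one, h0,
        Finset.sum_const, Finset.card_erase_of_mem (Finset.mem_univ _), Finset.card_univ,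
        nsmul_eq_mul, Nat.cast_sub (Fintype.card_pos (α := F)), Nat.cast_one]
      field_simp [card_cast_ne_zero (F := F)]
      ring
    · rw [restAvg_split hfc ha]
      simp only [hf, piC_split h2 hC hcard θ ha, zero_mul]
  have hfilt : (Finset.univ.filter fun a : Fˣ => a * a = 1) = {1, -1} := by
    ext a
    simp only [Finset.mem_filter, Finset.mem_univ, true_and, Finset.mem_insert,
      Finset.mem_singleton]
    constructor
    · intro h
      rcases mul_self_eq_one_iff.1 (show (a : F) * a = 1 from congrArg Units.val h) with h' | h'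
      · exact Or.inl (Units.ext h')
      · exact Or.inr (Units.ext h')
    · rintro (rfl | rfl) <;> simp
  have hne : (1 : Fˣ) ≠ -1 := fun h =>
    Ring.neg_one_ne_one_of_char_ne_two (ringChar_ne_two h2) (congrArg Units.val h).symm
  rw [e, classInner_P hfc]
  simp only [hr, mul_ite, mul_zero, ← Finset.sum_filter, hfilt, Finset.sum_pair hne,
    MulChar.inv_apply', Units.val_one, Units.val_neg, inv_neg, inv_one, MulChar.map_one, lamC_spec,
    card_units_cast]
  have h1 : (Fintype.card F : ℂ) - 1 ≠ 0 := by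
    rw [← card_units_cast]; exact card_units_cast_ne_zero
  field_simp

include h2 hC hcard in
lemma classInner_piC_piC (θ θ' : C →* ℂˣ) :
    classInner (piC h2 hcard θ) (piC h2 hcard θ') =
      (if θ = θ' then 1 else 0) + (if θ * θ' = 1 then 1 else 0) := by
  have e : classInner (piC h2 hcard θ) (piC h2 hcard θ') =
      classInner (piC h2 hcard θ) (fun g => (stFun F g - 1) * P (lamC h2 hcard θ') g) -
        classInner (piC h2 hcard θ) (indC θ') := by
    simp only [classInner, ← mul_sub, ← Finset.sum_sub_distrib, ← map_sub, piC]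
  rw [e, classInner_piC_stP h2 hC hcard, classInner_piC_indC h2 hC hcard]
  ring

include h2 hC hcard in
theorem piC_isIrr {θ : C →* ℂˣ} (hθ : θ * θ ≠ 1) : IsIrrCharacter SLG (piC h2 hcard θ) := by
  obtain ⟨ε, hε, hirr⟩ := Chars.Exceptional.gen_norm_one (piC_gen h2 hcard θ)
    (by rw [classInner_piC_piC h2 hC hcard, if_pos rfl, if_neg hθ, add_zero])
  rcases hε with rfl | rfl
  · simpa using hirr
  · exfalso
    obtain ⟨n, hn, h⟩ := Chars.exists_pos_natCast_map_one hirr
    rw [Pi.smul_apply, piC_one h2 hC hcard, smul_eq_mul] at h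
    have h' : (n : ℂ) + (Fintype.card F : ℂ) = 1 := by
      push_cast at h
      linear_combination -h
    have h'' : n + Fintype.card F = 1 := by exact_mod_cast h'
    have := Fintype.one_lt_card (α := F)
    omega

end Main

end CfsgLib.Sl2Chars
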