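import Cfsg.Agent.Sl2Chars.Borel
import Mathlib.NumberTheory.GaussSum
import Mathlib.NumberTheory.LegendreSymbol.Complex
import Mathlib.NumberTheory.LegendreSymbol.QuadraticChar.Basic

/-!
# Characters of `SL₂`: Fourier coefficients on the unipotent subgroup

`mU f b` is the multiplicity of the additive character `t ↦ ψ (b t)` in `f` restricted to `U`.
It only depends on the square class of `b`; the squares `mU χ a ^ 2` sum to `q + z - 1` over the
irreducible characters, `z` being the number of square roots of one.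
-/

set_option autoImplicit false
set_option linter.unusedSectionVars false

noncomputable section

namespace CfsgLib.Sl2Chars

open Cfsg CfsgLib.SL2
open scoped ComplexConjugate

variable {F : Type*} [Field F] [Fintype F] [DecidableEq F]

local notation "SLG" => Matrix.SpecialLinearGroup (Fin 2) F

/-- A primitive additive character. -/
def psiC (F : Type*) [Field F] [Fintype F] : AddChar F ℂ :=
  AddChar.FiniteField.primitiveChar_to_Complex F

lemma psiC_prim : (psiC F).IsPrimitive := AddChar.FiniteField.primitiveChar_to_Complex_isPrimitive F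

lemma conj_psiC (x : F) : conj (psiC F x) = psiC F (-x) := (AddChar.map_neg_eq_conj _ _).symm

lemma sum_psiC (b : F) :
    ∑ t : F, psiC F (b * t) = if b = 0 then (Fintype.card F : ℂ) else 0 := by
  simp only [mul_comm b]
  rw [AddChar.sum_mulShift b psiC_prim, Nat.cast_ite, Nat.cast_zero]

lemma sum_units_psiC (b : F) :
    ∑ t : Fˣ, psiC F (b * t) = (if b = 0 then (Fintype.card F : ℂ) else 0) - 1 := by
  rw [← sum_psiC b, ← Finset.sum_erase_add _ _ (Finset.mem_univ (0 : F)), mul_zero,
    AddChar.map_zero_eq_one, add_sub_cancel_right]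
  refine Finset.sum_bij' (fun t _ => (t : F)) (fun t ht => Units.mk0 t (Finset.ne_of_mem_erase ht))
    (by simp) (by simp) (by simp) (by simp) (by simp)

/-- Multiplicity of `t ↦ ψ (b t)` in the restriction of `f` to `U`. -/
def mU (f : SLG → ℂ) (b : F) : ℂ :=
  (Fintype.card F : ℂ)⁻¹ * ∑ t : F, f (u t) * psiC F (-(b * t))

lemma mU_zero (f : SLG → ℂ) : mU f 0 = restAvg f 1 := by simp [mU, restAvg]

/-- Fourier inversion on `U`. -/
lemma apply_u (f : SLG → ℂ) (t : F) : f (u t) = ∑ b : F, mU f b * psiC F (b * t) := by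
  simp only [mU, Finset.mul_sum, Finset.sum_mul]
  rw [Finset.sum_comm]
  have h : ∀ s : F, ∑ b : F, (Fintype.card F : ℂ)⁻¹ * (f (u s) * psiC F (-(b * s))) *
      psiC F (b * t) = if s = t then f (u s) else 0 := by
    intro s
    have e : ∀ b : F, (Fintype.card F : ℂ)⁻¹ * (f (u s) * psiC F (-(b * s))) * psiC F (b * t) =
        (Fintype.card F : ℂ)⁻¹ * f (u s) * psiC F ((t - s) * b) := by
      intro b
      rw [mul_assoc, mul_assoc, mul_assoc, ← AddChar.map_add_eq_mul]
      ring_nf
    simp only [e, ← Finset.mul_sum, sum_psiC, sub_eq_zero, eq_comm (a := t)]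
    split_ifs
    · field_simp [card_cast_ne_zero (F := F)]
    · rw [mul_zero]
  simp [h]

lemma apply_one_eq_sum (f : SLG → ℂ) : f 1 = ∑ b : F, mU f b := by
  simpa using apply_u f 0

/-- The multiplicities of a character are natural numbers. -/
lemma exists_nat_mU {χ : SLG → ℂ} (h : IsCharacter SLG χ) (b : F) : ∃ n : ℕ, mU χ b = n := by
  classical
  let lam : Multiplicative F →* ℂ :=
    { toFun := fun x => psiC F (b * x.toAdd)
      map_one' := by simp
      map_mul' := fun x y => by simp [mul_add, AddChar.map_add_eq_mul] }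
  have hl := Chars.isIrrCharacter_monoidHom lam.toHomUnits
  obtain ⟨n, hn⟩ := Chars.exists_nat_classInner (Chars.isCharacter_comp h uHom)
    ⟨_, hl⟩
  refine ⟨n, ?_⟩
  rw [← hn, mU, classInner, Nat.card_congr Multiplicative.toAdd, Nat.card_eq_fintype_card]
  congr 1
  refine Fintype.sum_equiv Multiplicative.ofAdd _ _ fun t => ?_
  simp [lam, conj_psiC, u]

lemma mU_sq_mul {f : SLG → ℂ} (hf : IsClassFunction SLG f) (c : Fˣ) (b : F) :
    mU f ((c : F) ^ 2 * b) = mU f b := by
  unfold mU
  congr 1
  refine Fintype.sum_equiv (Equiv.mulLeft₀ ((c : F) ^ 2) (pow_ne_zero _ c.ne_zero)) _ _ fun t => ?_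
  rw [Equiv.mulLeft₀_apply, ← d_conj_u, hf (u t) (d c)]
  ring_nf

lemma exists_sq_mul {a b : F} (ha : a ≠ 0) (hb : b ≠ 0) (h : IsSquare (a * b)) :
    ∃ c : Fˣ, (c : F) ^ 2 * a = b := by
  obtain ⟨r, hr⟩ := h
  have hr0 : r ≠ 0 := by rintro rfl; simp [ha, hb] at hr
  refine ⟨Units.mk0 (r / a) (div_ne_zero hr0 ha), ?_⟩
  rw [Units.val_mk0]
  field_simp
  linear_combination -hr

lemma mU_eq_of_isSquare {f : SLG → ℂ} (hf : IsClassFunction SLG f) {a b : F} (ha : a ≠ 0)
    (hb : b ≠ 0) (h : IsSquare (a * b)) : mU f b = mU f a := by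
  obtain ⟨c, rfl⟩ := exists_sq_mul ha hb h
  exact mU_sq_mul hf c a

/-! ### Column orthogonality -/

/-- Second orthogonality in counting form. -/
lemma sum_irr_mul_conj_eq_card (g h : SLG) :
    ∑ χ : IrrCharacter SLG, (χ : SLG → ℂ) g * conj ((χ : SLG → ℂ) h) =
      ((Finset.univ.filter fun x : SLG => x * g * x⁻¹ = h).card : ℂ) := by
  classical
  rw [Chars.sum_irr_mul_conj]
  split_ifs with hc
  · obtain ⟨y, hy⟩ := isConj_iff.1 hc
    congr 1
    rw [Nat.card_eq_fintype_card, ← Finset.card_univ]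
    refine Finset.card_bij (fun x _ => y * (x : SLG)) (fun x _ => ?_) ?_ ?_
    · have hx := Subgroup.mem_centralizer_singleton_iff.1 x.2
      simp only [Finset.mem_filter, Finset.mem_univ, true_and]
      rw [show y * (x : SLG) * g * (y * (x : SLG))⁻¹ = y * ((x : SLG) * g) * (x : SLG)⁻¹ * y⁻¹ by
        group, hx, ← hy]
      group
    · intro x₁ _ x₂ _ hx
      exact Subtype.ext (mul_left_cancel hx)
    · intro x hx
      simp only [Finset.mem_filter, Finset.mem_univ, true_and] at hx
      refine ⟨⟨y⁻¹ * x, Subgroup.mem_centralizer_singleton_iff.2 ?_⟩, Finset.mem_univ _, by simp⟩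
      calc y⁻¹ * x * g = y⁻¹ * (x * g * x⁻¹) * x := by group
        _ = y⁻¹ * (y * g * y⁻¹) * x := by rw [hx, hy]
        _ = g * (y⁻¹ * x) := by group
  · rw [eq_comm, Nat.cast_eq_zero, Finset.card_eq_zero, Finset.filter_eq_empty_iff]
    exact fun x _ hx => hc (isConj_iff.2 ⟨x, hx⟩)

lemma conj_d_mul_u (c : Fˣ) (r t : F) :
    d c * u r * u t * (d c * u r)⁻¹ = u ((c : F) ^ 2 * t) := by
  rw [← d_conj_u, mul_inv_rev, show d c * u r * u t * ((u r)⁻¹ * (d c)⁻¹) =
    d c * (u r * u t * (u r)⁻¹) * (d c)⁻¹ by group, ← u_add, add_comm, u_add, mul_inv_cancel_right]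

/-- Only elements of `B` conjugate a nontrivial element of `U` into `U`. -/
lemma mem_B_of_conj_u {x : SLG} {t s : F} (ht : t ≠ 0) (h : x * u t * x⁻¹ = u s) :
    x ∈ (B : Subgroup SLG) := by
  rw [mul_inv_eq_iff_eq_mul] at h
  have h' := congrArg (fun g : SLG => g 1 1) h
  simp [Matrix.mul_apply, Fin.sum_univ_two] at h'
  rw [mem_B]
  exact h'.resolve_right ht

/-- The number of square roots of one. -/
def numSqrtOne (F : Type*) [Field F] [Fintype F] [DecidableEq F] : ℕ :=
  (Finset.univ.filter fun c : Fˣ => c * c = 1).card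

lemma numSqrtOne_odd (h2 : (2 : F) ≠ 0) : numSqrtOne F = 2 := by
  rw [numSqrtOne, Finset.card_eq_two]
  refine ⟨1, -1, fun h => h2 ?_, ?_⟩
  · have := congrArg Units.val h
    simp at this
    linear_combination this
  · ext c
    simp only [Finset.mem_filter, Finset.mem_univ, true_and, Finset.mem_insert,
      Finset.mem_singleton]
    constructor
    · intro h
      rcases mul_self_eq_one_iff.1 (show (c : F) * c = 1 from congrArg Units.val h) with h' | h'
      · exact Or.inl (Units.ext h')
      · exact Or.inr (Units.ext h')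
    · rintro (rfl | rfl) <;> simp

lemma numSqrtOne_even [CharP F 2] : numSqrtOne F = 1 := by
  rw [numSqrtOne, Finset.card_eq_one]
  refine ⟨1, ?_⟩
  ext c
  simp only [Finset.mem_filter, Finset.mem_univ, true_and, Finset.mem_singleton]
  refine ⟨fun h => ?_, fun h => by simp [h]⟩
  have h' : (c : F) * c = 1 := congrArg Units.val h
  apply Units.ext
  rcases mul_self_eq_one_iff.1 h' with h'' | h''
  · exact h''
  · rw [h'', CharTwo.neg_eq]; rfl

/-- The sum of the squared multiplicities of a nontrivial character of `U`. -/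
theorem sum_mU_sq {a : F} (ha : a ≠ 0) :
    ∑ χ : IrrCharacter SLG, mU (χ : SLG → ℂ) a * mU (χ : SLG → ℂ) a =
      (Fintype.card F : ℂ) + numSqrtOne F - 1 := by
  classical
  set q := (Fintype.card F : ℂ) with hq
  have hreal : ∀ χ : IrrCharacter SLG, mU (χ : SLG → ℂ) a = conj (mU (χ : SLG → ℂ) a) := fun χ => by
    obtain ⟨n, hn⟩ := exists_nat_mU (Chars.isCharacter_coe χ) a
    rw [hn, map_natCast]
  have h1 : ∑ χ : IrrCharacter SLG, mU (χ : SLG → ℂ) a * mU (χ : SLG → ℂ) a =
      q⁻¹ * q⁻¹ * ∑ t : F, ∑ s : F, psiC F (a * (s - t)) *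
        ((Finset.univ.filter fun x : SLG => x * u t * x⁻¹ = u s).card : ℂ) := by
    simp only [← sum_irr_mul_conj_eq_card, Finset.mul_sum]
    rw [Finset.sum_comm_cycle]
    refine Finset.sum_congr rfl fun χ _ => ?_
    conv_lhs => arg 2; rw [hreal]
    simp only [mU, map_mul, map_inv₀, map_natCast, map_sum, conj_psiC, neg_neg, Finset.mul_sum,
      Finset.sum_mul, ← hq]
    rw [Finset.sum_comm]
    refine Finset.sum_congr rfl fun t _ => Finset.sum_congr rfl fun s _ => ?_
    rw [mul_sub, sub_eq_add_neg, AddChar.map_add_eq_mul, show conj q = q from Complex.conj_natCast _]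
    ring
  let Φ : SLG → ℂ := fun x => ∑ t : F, ∑ s : F,
    if x * u t * x⁻¹ = u s then psiC F (a * (s - t)) else 0
  have h2 : ∑ t : F, ∑ s : F, psiC F (a * (s - t)) *
      ((Finset.univ.filter fun x : SLG => x * u t * x⁻¹ = u s).card : ℂ) = ∑ x : SLG, Φ x := by
    simp only [Φ]
    rw [Finset.sum_comm (γ := SLG)]
    refine Finset.sum_congr rfl fun t _ => ?_
    rw [Finset.sum_comm (γ := SLG)]
    refine Finset.sum_congr rfl fun s _ => ?_
    rw [Finset.card_filter, Nat.cast_sum, Finset.mul_sum]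
    refine Finset.sum_congr rfl fun x _ => ?_
    split_ifs <;> simp
  have hB : ∀ (c : Fˣ) (r : F), Φ (d c * u r) = if c * c = 1 then q else 0 := by
    intro c r
    simp only [Φ, conj_d_mul_u, u_injective.eq_iff]
    simp only [Finset.sum_ite_eq, Finset.mem_univ, if_true]
    rw [show ∑ t : F, psiC F (a * ((c : F) ^ 2 * t - t)) =
      ∑ t : F, psiC F ((a * ((c : F) ^ 2 - 1)) * t) from Finset.sum_congr rfl fun t _ => by
        ring_nf, sum_psiC]
    congr 1
    rw [eq_iff_iff, mul_eq_zero, or_iff_right ha, sub_eq_zero, Units.ext_iff, Units.val_mul,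
      Units.val_one, sq]
  have hnB : ∀ x : SLG, x ∉ (B : Subgroup SLG) → Φ x = 1 := by
    intro x hx
    simp only [Φ]
    rw [Finset.sum_eq_single (0 : F), Finset.sum_eq_single (0 : F)]
    · simp
    · intro s _ hs
      rw [if_neg]
      simpa using fun h : (1 : SLG) = u s => hs (u_eq_one_iff.1 h.symm)
    · simp
    · intro t _ ht
      exact Finset.sum_eq_zero fun s _ => if_neg fun h => hx (mem_B_of_conj_u ht h)
    · simp
  rw [h1, h2, ← Finset.sum_filter_add_sum_filter_not _ (fun x : SLG => x ∈ (B : Subgroup SLG)),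
    Finset.sum_congr rfl (fun x hx => hnB x (Finset.mem_filter.1 hx).2),
    ← Finset.sum_subtype_eq_sum_filter]
  simp only [Finset.subtype_univ, Finset.sum_const, nsmul_one]
  rw [← (bEquiv (F := F)).sum_comp, Fintype.sum_prod_type]
  simp only [bEquiv_coe, hB, Finset.sum_const, Finset.card_univ, nsmul_eq_mul, ← Finset.sum_filter,
    ← Finset.mul_sum]
  have hc := Finset.card_filter_add_card_filter_not (s := (Finset.univ : Finset SLG))
    (fun x : SLG => x ∈ (B : Subgroup SLG))
  rw [Finset.card_univ, ← Fintype.card_subtype, ← Nat.card_eq_fintype_card,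
    ← Nat.card_eq_fintype_card, ← (B : Subgroup SLG).card_mul_index, B_index,
    Nat.card_congr (bEquiv (F := F)).symm, Nat.card_prod, Nat.card_eq_fintype_card,
    Nat.card_eq_fintype_card] at hc
  have hc' := congrArg (fun n : ℕ => (n : ℂ)) hc
  push_cast at hc'
  rw [card_units_cast, ← hq] at hc'
  rw [show ((Finset.univ.filter fun c : Fˣ => c * c = 1).card : ℂ) = numSqrtOne F from rfl]
  have hq0 : q ≠ 0 := card_cast_ne_zero
  field_simp
  linear_combination hc'

end CfsgLib.Sl2Chars
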